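import Mathlib
import Groth.Agent.Flat2E.SmoothInf

/-!
# The Jacobian criterion along a section in characteristic zero: the noetherian case

`C` is an algebra over a `ℚ`-algebra `A` with a retraction `ε : C → A` whose kernel is generated by
elements `a i` and with derivations `D i` such that `D i (a j) = δ i j`. Then `A[T] / (T) ^ k → C / (a) ^ k`
is bijective for all `k`; if `A` is noetherian and `C` of finite presentation, `C` is smooth over `A` at every
prime containing the kernel of `ε`.
-/

set_option autoImplicit false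

universe u

open MvPolynomial TensorProduct

namespace K208.JacZero

section powers

variable {A C : Type*} [CommRing A] [CommRing C] [Algebra A C] {n : ℕ}

/-- A derivation maps `J ^ (k + 1)` to `J ^ k`. -/
theorem der_mem_pow (D : Derivation A C C) (J : Ideal C) (k : ℕ) {x : C} (hx : x ∈ J ^ (k + 1)) :
    D x ∈ J ^ k := by
  induction k generalizing x with
  | zero => simp
  | succ k ih =>
    rw [pow_succ] at hx
    refine Submodule.mul_induction_on hx (fun y hy z hz ↦ ?_) (fun y z hy hz ↦ ?_)
    · rw [Derivation.leibniz]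
      refine Ideal.add_mem _ (Ideal.mul_mem_right _ _ hy) ?_
      rw [smul_eq_mul, pow_succ', ]
      exact Ideal.mul_mem_mul hz (ih hy)
    · rw [map_add]
      exact Ideal.add_mem _ hy hz

variable (ε : C →ₐ[A] A) (a : Fin n → C) (ha : ∀ i, ε (a i) = 0)
  (D : Fin n → Derivation A C C) (hD : ∀ i j, D i (a j) = if i = j then 1 else 0)

include hD in
theorem D_aeval (i : Fin n) (f : MvPolynomial (Fin n) A) :
    D i (aeval a f) = aeval a (pderiv i f) := by
  induction f using MvPolynomial.induction_on with
  | C c => simp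
  | add f g hf hg => simp [hf, hg]
  | mul_X f j hf =>
    rw [map_mul, Derivation.leibniz, hf, aeval_X, hD, pderiv_mul, pderiv_X]
    simp only [smul_eq_mul, map_add, map_mul, aeval_X, Pi.single_apply]
    split_ifs with h1 h2 h2
    · simp; ring
    · exact absurd h1.symm h2
    · exact absurd h2.symm h1
    · simp; ring

include ha in
theorem eps_aeval (f : MvPolynomial (Fin n) A) : ε (aeval a f) = constantCoeff f := by
  have : (ε.comp (aeval a)) = (aeval (fun _ ↦ (0 : A)) : MvPolynomial (Fin n) A →ₐ[A] A) := by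
    ext i
    simp [ha]
  have h2 := congrArg (fun g : MvPolynomial (Fin n) A →ₐ[A] A ↦ g f) this
  simp only [AlgHom.comp_apply] at h2
  rw [h2, aeval_zero']
  rfl

include ha hD in
theorem mem_pow_of_aeval_mem [Algebra ℚ A] (J : Ideal C) (hJ : ∀ x ∈ J, ε x = 0) (k : ℕ)
    (f : MvPolynomial (Fin n) A) (hf : aeval a f ∈ J ^ k) : f ∈ idealOfVars (Fin n) A ^ k := by
  induction k generalizing f with
  | zero => simp
  | succ k ih =>
    rw [mem_pow_idealOfVars_iff']
    intro x hx
    by_cases hx0 : x = 0
    · subst hx0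
      have h1 : aeval a f ∈ J := (Ideal.pow_le_self (Nat.succ_ne_zero k)) hf
      have h2 := eps_aeval ε a ha f
      rw [hJ _ h1] at h2
      exact h2.symm
    · obtain ⟨i, hi⟩ : ∃ i, x i ≠ 0 := by
        by_contra h
        push Not at h
        exact hx0 (Finsupp.ext h)
      have h1 : pderiv i f ∈ idealOfVars (Fin n) A ^ k := by
        apply ih
        rw [← D_aeval a D hD]
        exact der_mem_pow (D i) J k hf
      rw [mem_pow_idealOfVars_iff'] at h1
      have hle : Finsupp.single i 1 ≤ x := by
        rw [Finsupp.single_le_iff]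
        exact Nat.one_le_iff_ne_zero.mpr hi
      have hxe : x - Finsupp.single i 1 + Finsupp.single i 1 = x := tsub_add_cancel_of_le hle
      have hdeg : (x - Finsupp.single i 1).degree < k := by
        have := congrArg Finsupp.degree hxe
        rw [map_add, Finsupp.degree_single] at this
        omega
      have h2 := h1 _ hdeg
      rw [coeff_pderiv, hxe] at h2
      generalize (x - Finsupp.single i 1 : Fin n →₀ ℕ) i = m at h2
      have h3 : IsUnit ((m : A) + 1) := by
        have : ((m : A) + 1) = algebraMap ℚ A ((m : ℚ) + 1) := by simp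
        rw [this]
        apply IsUnit.map
        rw [isUnit_iff_ne_zero]
        positivity
      exact (h3.mul_left_eq_zero).mp h2

theorem map_idealOfVars : (idealOfVars (Fin n) A).map (aeval a : MvPolynomial (Fin n) A →ₐ[A] C) =
    Ideal.span (Set.range a) := by
  rw [idealOfVars, Ideal.map_span, ← Set.range_comp]
  congr 2
  funext i
  exact aeval_X a i

theorem exists_sub_mem_succ (hJ : ∀ x, ε x = 0 → x ∈ Ideal.span (Set.range a)) (k : ℕ) (x : C)
    (hx : x ∈ (idealOfVars (Fin n) A ^ k).map (aeval a : MvPolynomial (Fin n) A →ₐ[A] C)) :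
    ∃ f : MvPolynomial (Fin n) A, x - aeval a f ∈
      (idealOfVars (Fin n) A ^ (k + 1)).map (aeval a : MvPolynomial (Fin n) A →ₐ[A] C) := by
  refine Submodule.span_induction (p := fun x _ ↦ ∃ f : MvPolynomial (Fin n) A, x - aeval a f ∈
      (idealOfVars (Fin n) A ^ (k + 1)).map (aeval a : MvPolynomial (Fin n) A →ₐ[A] C))
    ?_ ⟨0, by simp⟩ ?_ ?_ hx
  · rintro _ ⟨m, -, rfl⟩
    exact ⟨m, by simp⟩
  · rintro y z - - ⟨f, hf⟩ ⟨g, hg⟩
    refine ⟨f + g, ?_⟩
    have := Ideal.add_mem _ hf hg
    rw [map_add]
    convert this using 1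
    ring
  · rintro c y hy ⟨f, hf⟩
    refine ⟨MvPolynomial.C (ε c) * f, ?_⟩
    have h1 : c - algebraMap A C (ε c) ∈ Ideal.span (Set.range a) := by
      apply hJ
      rw [map_sub, AlgHom.commutes]
      simp
    have h2 : (c - algebraMap A C (ε c)) * y ∈
        (idealOfVars (Fin n) A ^ (k + 1)).map (aeval a : MvPolynomial (Fin n) A →ₐ[A] C) := by
      rw [pow_succ', Ideal.map_mul, map_idealOfVars]
      exact Ideal.mul_mem_mul h1 hy
    have h3 := Ideal.add_mem _ h2 (Ideal.mul_mem_left _ (algebraMap A C (ε c)) hf)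
    rw [map_mul, aeval_C, smul_eq_mul]
    convert h3 using 1
    ring

theorem exists_sub_mem (hJ : ∀ x, ε x = 0 → x ∈ Ideal.span (Set.range a)) (k : ℕ) (x : C) :
    ∃ f : MvPolynomial (Fin n) A, x - aeval a f ∈
      (idealOfVars (Fin n) A ^ k).map (aeval a : MvPolynomial (Fin n) A →ₐ[A] C) := by
  induction k with
  | zero =>
    refine ⟨0, ?_⟩
    rw [pow_zero, Ideal.one_eq_top, Ideal.map_top]
    trivial
  | succ k ih =>
    obtain ⟨f, hf⟩ := ih
    obtain ⟨g, hg⟩ := exists_sub_mem_succ ε a hJ k _ hf
    refine ⟨f + g, ?_⟩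
    rw [map_add, ← sub_sub]
    exact hg

end powers

/-- Bijectivity of `R / K → (R / K) ⊗ T`. -/
theorem smooth_quotient {R T : Type u} [CommRing R] [CommRing T] [Algebra R T] (K : Ideal R)
    (h1 : ∀ r : R, algebraMap R T r ∈ K.map (algebraMap R T) → r ∈ K)
    (h2 : ∀ t : T, ∃ r : R, t - algebraMap R T r ∈ K.map (algebraMap R T)) :
    Algebra.Smooth (R ⧸ K) ((R ⧸ K) ⊗[R] T) := by
  have hb : Function.Bijective (algebraMap (R ⧸ K) (T ⧸ K.map (algebraMap R T))) := by
    constructor
    · rw [injective_iff_map_eq_zero]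
      intro x hx
      obtain ⟨r, rfl⟩ := Ideal.Quotient.mk_surjective x
      rw [Ideal.Quotient.eq_zero_iff_mem]
      apply h1
      rw [← Ideal.Quotient.eq_zero_iff_mem]
      exact hx
    · intro x
      obtain ⟨t, rfl⟩ := Ideal.Quotient.mk_surjective x
      obtain ⟨r, hr⟩ := h2 t
      refine ⟨Ideal.Quotient.mk _ r, ?_⟩
      change Ideal.Quotient.mk _ (algebraMap R T r) = _
      exact (Ideal.Quotient.eq.mpr hr).symm
  let e : (R ⧸ K) ≃ₐ[R ⧸ K] (T ⧸ K.map (algebraMap R T)) := AlgEquiv.ofBijective (Algebra.ofId _ _) hb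
  exact Algebra.Smooth.of_equiv (e.trans (Algebra.TensorProduct.quotIdealMapEquivQuotTensor T K))

section noeth

variable {A C : Type u} [CommRing A] [CommRing C] [Algebra A C] {n : ℕ}
  (ε : C →ₐ[A] A) (a : Fin n → C) (ha : ∀ i, ε (a i) = 0)
  (D : Fin n → Derivation A C C) (hD : ∀ i j, D i (a j) = if i = j then 1 else 0)

include ha hD in
/-- The Jacobian criterion along a section in characteristic zero, noetherian case. -/
theorem isSmoothAt_of_noeth [Algebra ℚ A] [IsNoetherianRing A] [Algebra.FinitePresentation A C]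
    (hJ : ∀ x, ε x = 0 → x ∈ Ideal.span (Set.range a)) (q : Ideal C) [q.IsPrime]
    (hq : ∀ x, ε x = 0 → x ∈ q) : Algebra.IsSmoothAt A q := by
  algebraize [(aeval a : MvPolynomial (Fin n) A →ₐ[A] C).toRingHom]
  have : IsScalarTower A (MvPolynomial (Fin n) A) C := .of_algebraMap_eq' (by
    ext r
    exact ((aeval a : MvPolynomial (Fin n) A →ₐ[A] C).commutes r).symm)
  have : Algebra.FinitePresentation (MvPolynomial (Fin n) A) C :=
    Algebra.FinitePresentation.of_restrict_scalars_finitePresentation A _ _
  have hpow : ∀ k, (idealOfVars (Fin n) A ^ k).map (algebraMap (MvPolynomial (Fin n) A) C) =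
      (Ideal.span (Set.range a)) ^ k := by
    intro k
    rw [Ideal.map_pow]
    congr 1
    exact map_idealOfVars a
  have h : Algebra.IsSmoothAt (MvPolynomial (Fin n) A) q := by
    refine Groth.Agent.Flat2E.SmoothInf.isSmoothAt_of_forall_pow (idealOfVars (Fin n) A) ?_ q ?_
    · intro k
      refine smooth_quotient _ (fun r hr ↦ ?_) (fun t ↦ ?_)
      · rw [hpow] at hr
        refine mem_pow_of_aeval_mem ε a ha D hD _ ?_ (k + 1) r hr
        intro x hx
        refine Submodule.span_induction (p := fun x _ ↦ ε x = 0) ?_ (map_zero _) ?_ ?_ hx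
        · rintro _ ⟨i, rfl⟩
          exact ha i
        · intro y z _ _ hy hz
          rw [map_add, hy, hz, add_zero]
        · intro c y _ hy
          rw [smul_eq_mul, map_mul, hy, mul_zero]
      · exact exists_sub_mem ε a hJ (k + 1) t
    · rw [← pow_one (idealOfVars (Fin n) A), hpow, pow_one, Ideal.span_le]
      rintro _ ⟨i, rfl⟩
      exact hq _ (ha i)
  have h1 : Algebra.FormallySmooth (MvPolynomial (Fin n) A) (Localization.AtPrime q) := h
  exact Algebra.FormallySmooth.comp A (MvPolynomial (Fin n) A) _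

end noeth

end K208.JacZero
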