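import Mathlib
import Groth.Agent.SGA3.K208.JacZero
import Groth.Agent.Smoothlim.SmoothDescent

/-!
# The Jacobian criterion along a section in characteristic zero: reduction to the noetherian case
-/

set_option autoImplicit false

universe u

open MvPolynomial TensorProduct

namespace K208.JacDesc

/-- Finitely many polynomials over a `ℚ`-algebra have coefficients in a finitely generated subalgebra. -/
theorem exists_subalgebra {A : Type u} [CommRing A] [Algebra ℚ A] {ι : Type*}
    (T : Set (MvPolynomial ι A)) (hT : T.Finite) (s : Set A) (hs : s.Finite) :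
    ∃ R₀ : Subalgebra ℚ A, R₀.FG ∧
      (∀ p ∈ T, ∃ p₀ : MvPolynomial ι R₀, MvPolynomial.map (algebraMap R₀ A) p₀ = p) ∧
      ∀ x ∈ s, x ∈ R₀ := by
  let t : Set A := (⋃ p ∈ T, (p.coeffs : Set A)) ∪ s
  have ht : t.Finite := (hT.biUnion fun p _ ↦ p.coeffs.finite_toSet).union hs
  refine ⟨Algebra.adjoin ℚ t, ?_, ?_, ?_⟩
  · exact ⟨ht.toFinset, by rw [Set.Finite.coe_toFinset]⟩
  · intro p hp
    have : p ∈ Set.range (MvPolynomial.map (algebraMap (Algebra.adjoin ℚ t) A)) := by
      rw [MvPolynomial.mem_range_map_iff_coeffs_subset]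
      intro x hx
      have h1 : x ∈ t := Or.inl (Set.mem_biUnion hp hx)
      exact ⟨⟨x, Algebra.subset_adjoin h1⟩, rfl⟩
    exact this
  · intro x hx
    exact Algebra.subset_adjoin (Or.inr hx)

theorem der_aeval {A C : Type*} [CommRing A] [CommRing C] [Algebra A C] {ι : Type*} [Fintype ι]
    (D : Derivation A C C) (v : ι → C) (f : MvPolynomial ι A) :
    D (aeval v f) = ∑ i, aeval v (pderiv i f) * D (v i) := by
  classical
  induction f using MvPolynomial.induction_on with
  | C c => simp
  | add f g hf hg => simp [hf, hg, add_mul, Finset.sum_add_distrib]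
  | mul_X f j hf =>
    rw [map_mul, Derivation.leibniz, hf, aeval_X]
    simp only [pderiv_mul, pderiv_X, map_add, map_mul, aeval_X, smul_eq_mul, add_mul,
      Finset.sum_add_distrib, Finset.mul_sum]
    rw [add_comm]
    congr 1
    · refine Finset.sum_congr rfl fun i _ ↦ ?_
      ring
    · rw [Finset.sum_eq_single j]
      · simp
      · intro b _ hb
        simp [hb.symm]
      · simp

/-- The local ring of a finitely presented algebra at a smooth prime is flat over the base. -/
theorem flat_localization_of_isSmoothAt {R A : Type*} [CommRing R] [CommRing A] [Algebra R A]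
    [Algebra.FinitePresentation R A] (p : Ideal A) [p.IsPrime] [Algebra.IsSmoothAt R p] :
    Module.Flat R (Localization.AtPrime p) := by
  obtain ⟨f, hf, hsm⟩ := Algebra.IsSmoothAt.exists_notMem_smooth R p
  have hle : Submonoid.powers f ≤ p.primeCompl := by
    rw [Submonoid.powers_le]; exact hf
  let _ : Algebra (Localization.Away f) (Localization.AtPrime p) :=
    IsLocalization.localizationAlgebraOfSubmonoidLe (Localization.Away f) (Localization.AtPrime p)
      (Submonoid.powers f) p.primeCompl hle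
  have : IsScalarTower A (Localization.Away f) (Localization.AtPrime p) :=
    IsLocalization.localization_isScalarTower_of_submonoid_le (Localization.Away f)
      (Localization.AtPrime p) (Submonoid.powers f) p.primeCompl hle
  have : IsScalarTower R (Localization.Away f) (Localization.AtPrime p) := by
    refine IsScalarTower.of_algebraMap_eq fun x => ?_
    rw [IsScalarTower.algebraMap_apply R A (Localization.AtPrime p),
      IsScalarTower.algebraMap_apply A (Localization.Away f) (Localization.AtPrime p),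
      IsScalarTower.algebraMap_apply R A (Localization.Away f)]
  have : IsLocalization (p.primeCompl.map (algebraMap A (Localization.Away f)))
      (Localization.AtPrime p) :=
    IsLocalization.isLocalization_of_submonoid_le (Localization.Away f) (Localization.AtPrime p)
      (Submonoid.powers f) p.primeCompl hle
  have : Module.Flat (Localization.Away f) (Localization.AtPrime p) :=
    IsLocalization.flat _ (p.primeCompl.map (algebraMap A (Localization.Away f)))
  exact Module.Flat.trans R (Localization.Away f) _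

attribute [local instance] Algebra.TensorProduct.rightAlgebra in
theorem isPushout_of_equiv {R R' S T : Type*} [CommRing R] [CommRing R'] [CommRing S] [CommRing T]
    [Algebra R R'] [Algebra R S] [Algebra R' T] [Algebra S T] [Algebra R T] [IsScalarTower R S T]
    [IsScalarTower R R' T] (e : R' ⊗[R] S ≃ₐ[R'] T) (he : ∀ s, e (1 ⊗ₜ s) = algebraMap S T s) :
    Algebra.IsPushout R R' S T :=
  Algebra.IsPushout.of_equiv (R := R) (R' := R') (S := S) (S' := R' ⊗[R] S) e (by
    ext s
    exact he s)

theorem exists_sum_of_aeval_eq_zero {A C : Type*} [CommRing A] [CommRing C] [Algebra A C]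
    {ι σ : Type*} [Fintype σ] (P : Algebra.Presentation A C ι σ) (f : MvPolynomial ι A)
    (hf : aeval P.val f = 0) : ∃ h : σ → MvPolynomial ι A, f = ∑ k, h k * P.relation k := by
  have h1 : f ∈ P.ker := by
    rw [Algebra.Generators.ker_eq_ker_aeval_val]
    exact hf
  rw [← P.span_range_relation_eq_ker, Ideal.mem_span_range_iff_exists_fun] at h1
  obtain ⟨c, hc⟩ := h1
  exact ⟨c, hc.symm⟩

variable {A C : Type u} [CommRing A] [CommRing C] [Algebra A C] {n : ℕ}
  (ε : C →ₐ[A] A) (a : Fin n → C) (ha : ∀ i, ε (a i) = 0)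
  (D : Fin n → Derivation A C C) (hD : ∀ i j, D i (a j) = if i = j then 1 else 0)

include ha hD in
/-- The Jacobian criterion along a section in characteristic zero. -/
theorem isSmoothAt_of_section [Algebra ℚ A] [Algebra.FinitePresentation A C]
    (hJ : ∀ x, ε x = 0 → x ∈ Ideal.span (Set.range a)) (q : Ideal C) [q.IsPrime]
    (hq : ∀ x, ε x = 0 → x ∈ q) : Algebra.IsSmoothAt A q := by
  classical
  let P := Algebra.Presentation.ofFinitePresentation A C
  set ι := Fin (Algebra.Presentation.ofFinitePresentationVars A C) with hι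
  set σ := Fin (Algebra.Presentation.ofFinitePresentationRels A C) with hσ
  have hsurj : Function.Surjective (aeval P.val : MvPolynomial ι A →ₐ[A] C) := P.aeval_val_surjective
  let x : ι → A := fun i ↦ ε (P.val i)
  choose α hα using fun l ↦ hsurj (a l)
  choose c hc using fun (i : ι) (l : Fin n) ↦ hsurj (D l (P.val i))
  have E1 : ∀ (j : σ) (l : Fin n), ∃ h : σ → MvPolynomial ι A,
      ∑ i, pderiv i (P.relation j) * c i l = ∑ k, h k * P.relation k := by
    intro j l
    apply exists_sum_of_aeval_eq_zero P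
    have := der_aeval (D l) P.val (P.relation j)
    rw [P.aeval_val_relation, map_zero] at this
    rw [map_sum, this]
    refine Finset.sum_congr rfl fun i _ ↦ ?_
    rw [map_mul, hc]
  have E2 : ∀ l l' : Fin n, ∃ h : σ → MvPolynomial ι A,
      ∑ i, pderiv i (α l') * c i l - (if l = l' then 1 else 0) = ∑ k, h k * P.relation k := by
    intro l l'
    apply exists_sum_of_aeval_eq_zero P
    have := der_aeval (D l) P.val (α l')
    rw [hα, hD] at this
    rw [map_sub, map_sum, sub_eq_zero]
    have h2 : aeval P.val (if l = l' then (1 : MvPolynomial ι A) else 0) =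
        (if l = l' then (1 : C) else 0) := by split_ifs <;> simp
    rw [h2, this]
    refine Finset.sum_congr rfl fun i _ ↦ ?_
    rw [map_mul, hc]
  have E3 : ∀ i : ι, ∃ (d : Fin n → MvPolynomial ι A) (e : σ → MvPolynomial ι A),
      X i - MvPolynomial.C (x i) - ∑ l, d l * α l = ∑ k, e k * P.relation k := by
    intro i
    have h1 : P.val i - algebraMap A C (x i) ∈ Ideal.span (Set.range a) := by
      apply hJ
      rw [map_sub, AlgHom.commutes]
      simp [x]
    rw [Ideal.mem_span_range_iff_exists_fun] at h1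
    obtain ⟨y, hy⟩ := h1
    choose d hd using fun l ↦ hsurj (y l)
    refine ⟨d, ?_⟩
    apply exists_sum_of_aeval_eq_zero P
    rw [map_sub, map_sub, aeval_X, aeval_C, map_sum, ← hy, sub_eq_zero]
    refine Finset.sum_congr rfl fun l _ ↦ ?_
    rw [map_mul, hd, hα]
  choose h1 hh1 using E1
  choose h2 hh2 using E2
  choose d e hde using E3
  obtain ⟨R₀, hfg, hlift, hx₀⟩ := exists_subalgebra (A := A) (ι := ι)
    (Set.range P.relation ∪ Set.range α ∪ Set.range (Function.uncurry c) ∪
      Set.range (fun t : σ × Fin n × σ ↦ h1 t.1 t.2.1 t.2.2) ∪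
      Set.range (fun t : Fin n × Fin n × σ ↦ h2 t.1 t.2.1 t.2.2) ∪
      Set.range (Function.uncurry d) ∪ Set.range (Function.uncurry e))
    (by
      refine ((((((Set.finite_range _).union (Set.finite_range _)).union (Set.finite_range _)).union
        (Set.finite_range _)).union (Set.finite_range _)).union (Set.finite_range _)).union
        (Set.finite_range _)) (Set.range x) (Set.finite_range _)
  let x₀ : ι → R₀ := fun i ↦ ⟨x i, hx₀ _ ⟨i, rfl⟩⟩
  have hP : P.HasCoeffs R₀ := by
    refine ⟨?_⟩
    intro y hy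
    obtain ⟨k, hk⟩ := Set.mem_iUnion.mp hy
    obtain ⟨p₀, hp₀⟩ := hlift (P.relation k) (by simp)
    have : P.relation k ∈ Set.range (MvPolynomial.map (algebraMap R₀ A)) := ⟨p₀, hp₀⟩
    rw [MvPolynomial.mem_range_map_iff_coeffs_subset] at this
    exact this hk
  obtain ⟨μ, hμdef⟩ : ∃ μ : MvPolynomial ι R₀ →+* MvPolynomial ι A,
    μ = MvPolynomial.map (algebraMap R₀ A) := ⟨_, rfl⟩
  rw [← hμdef] at hlift
  have hinj : Function.Injective (algebraMap R₀ A) := Subtype.val_injective
  have hμ : Function.Injective μ := hμdef ▸ MvPolynomial.map_injective _ hinj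
  have hpd : ∀ i f, μ (pderiv i f) = pderiv i (μ f) := fun i f ↦ by
    rw [hμdef, pderiv_map]
  have hμX : ∀ i, μ (X i) = X i := fun i ↦ by rw [hμdef, map_X]
  have hμC : ∀ r, μ (MvPolynomial.C r) = MvPolynomial.C (algebraMap R₀ A r) := fun i ↦ by
    rw [hμdef, map_C]
  let rel₀ := P.relationOfHasCoeffs R₀
  have hrel₀ : ∀ k, μ (rel₀ k) = P.relation k := fun k ↦ hμdef ▸ P.map_relationOfHasCoeffs R₀ k
  choose α₀ hα₀ using fun l ↦ hlift (α l) (by simp)
  choose c₀ hc₀ using fun i l ↦ hlift (c i l) (by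
    left; left; left; left; right
    exact ⟨(i, l), rfl⟩)
  choose h1₀ hh1₀ using fun j l k ↦ hlift (h1 j l k) (by
    left; left; left; right
    exact ⟨(j, l, k), rfl⟩)
  choose h2₀ hh2₀ using fun j l k ↦ hlift (h2 j l k) (by
    left; left; right
    exact ⟨(j, l, k), rfl⟩)
  choose d₀ hd₀ using fun i l ↦ hlift (d i l) (by
    left; right
    exact ⟨(i, l), rfl⟩)
  choose e₀ he₀ using fun i l ↦ hlift (e i l) (by
    right
    exact ⟨(i, l), rfl⟩)
  have F1 : ∀ j l, ∑ i, pderiv i (rel₀ j) * c₀ i l = ∑ k, h1₀ j l k * rel₀ k := by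
    intro j l
    apply hμ
    simp only [map_sum, map_mul, hpd, hrel₀, hc₀, hh1₀]
    exact hh1 j l
  have F2 : ∀ l l', ∑ i, pderiv i (α₀ l') * c₀ i l - (if l = l' then 1 else 0) =
      ∑ k, h2₀ l l' k * rel₀ k := by
    intro l l'
    apply hμ
    rw [map_sub]
    have : μ (if l = l' then 1 else 0) = (if l = l' then 1 else 0) := by split_ifs <;> simp
    simp only [this, map_sum, map_mul, hpd, hrel₀, hc₀, hα₀, hh2₀]
    exact hh2 l l'
  have F3 : ∀ i, X i - MvPolynomial.C (x₀ i) - ∑ l, d₀ i l * α₀ l = ∑ k, e₀ i k * rel₀ k := by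
    intro i
    apply hμ
    simp only [map_sub, map_sum, map_mul, hμX, hμC, hrel₀, hd₀, hα₀, he₀]
    exact hde i
  have hev : ∀ f : MvPolynomial ι R₀, algebraMap R₀ A (aeval x₀ f) = ε (aeval P.val (μ f)) := by
    intro f
    induction f using MvPolynomial.induction_on with
    | C r =>
      rw [hμC, aeval_C, aeval_C, AlgHom.commutes]
      rfl
    | add f g hf hg => simp only [map_add, hf, hg]
    | mul_X f j hf =>
      simp only [map_mul, hf, hμX, aeval_X]
      rfl
  have hevrel : ∀ k, aeval x₀ (rel₀ k) = 0 := by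
    intro k
    apply hinj
    rw [hev, hrel₀, P.aeval_val_relation, map_zero, map_zero]
  have hevα : ∀ l, aeval x₀ (α₀ l) = 0 := by
    intro k
    apply hinj
    rw [hev, hα₀, hα, ha, map_zero]
  let C₀ := P.ModelOfHasCoeffs R₀
  let π : MvPolynomial ι R₀ →ₐ[R₀] C₀ := Ideal.Quotient.mkₐ R₀ _
  have hπ : Function.Surjective π := Ideal.Quotient.mkₐ_surjective _ _
  have hπrel : ∀ k, π (rel₀ k) = 0 := fun k ↦
    Ideal.Quotient.eq_zero_iff_mem.mpr (Ideal.subset_span ⟨k, rfl⟩)
  have hπker : ∀ f, π f = 0 → ∃ h : σ → MvPolynomial ι R₀, f = ∑ k, h k * rel₀ k := by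
    intro f hf
    have h1 : f ∈ Ideal.span (Set.range rel₀) := Ideal.Quotient.eq_zero_iff_mem.mp hf
    rw [Ideal.mem_span_range_iff_exists_fun] at h1
    obtain ⟨c, hc⟩ := h1
    exact ⟨c, hc.symm⟩
  let ε₀ : C₀ →ₐ[R₀] R₀ := Ideal.Quotient.liftₐ _ (aeval x₀) (by
    intro f hf
    obtain ⟨h, rfl⟩ := hπker f (Ideal.Quotient.eq_zero_iff_mem.mpr hf)
    rw [map_sum]
    exact Finset.sum_eq_zero fun k _ ↦ by rw [map_mul, hevrel, mul_zero])
  have hε₀ : ∀ f, ε₀ (π f) = aeval x₀ f := fun f ↦ rfl
  have hmk : ∀ (l : Fin n) (f : MvPolynomial ι R₀), mkDerivation R₀ (fun i ↦ c₀ i l) f =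
      ∑ i, pderiv i f * c₀ i l := by
    intro l f
    have := der_aeval (mkDerivation R₀ (fun i ↦ c₀ i l)) (X : ι → MvPolynomial ι R₀) f
    simpa [aeval_X_left] using this
  let D₀ : Fin n → Derivation R₀ C₀ C₀ := fun l ↦
    Derivation.liftOfSurjective (f := π) hπ (d := mkDerivation R₀ (fun i ↦ c₀ i l)) (by
      intro f hf
      obtain ⟨h, rfl⟩ := hπker f hf
      rw [map_sum, map_sum]
      refine Finset.sum_eq_zero fun k _ ↦ ?_
      rw [Derivation.leibniz, map_add, smul_eq_mul, smul_eq_mul, map_mul, map_mul, hπrel, zero_mul,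
        add_zero, hmk, F1, map_sum]
      have : ∑ j, π (h1₀ k l j * rel₀ j) = 0 := Finset.sum_eq_zero fun j _ ↦ by
        rw [map_mul, hπrel, mul_zero]
      rw [this, mul_zero])
  have hD₀ : ∀ l f, D₀ l (π f) = π (∑ i, pderiv i f * c₀ i l) := by
    intro l f
    rw [← hmk]
    exact Derivation.liftOfSurjective_apply hπ _ _
  have hD₀' : ∀ l l', D₀ l (π (α₀ l')) = if l = l' then 1 else 0 := by
    intro l l'
    have h1 : ∑ i, pderiv i (α₀ l') * c₀ i l = (if l = l' then 1 else 0) + ∑ k, h2₀ l l' k * rel₀ k := by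
      rw [← F2, add_sub_cancel]
    have h2 : ∑ j, π (h2₀ l l' j * rel₀ j) = 0 := Finset.sum_eq_zero fun j _ ↦ by
      rw [map_mul, hπrel, mul_zero]
    rw [hD₀, h1, map_add, map_sum, h2, add_zero]
    split_ifs <;> simp
  have hJ₀ : ∀ y, ε₀ y = 0 → y ∈ Ideal.span (Set.range fun l ↦ π (α₀ l)) := by
    intro y hy
    obtain ⟨f, rfl⟩ := hπ y
    have key : π f - algebraMap R₀ C₀ (aeval x₀ f) ∈ Ideal.span (Set.range fun l ↦ π (α₀ l)) := by
      clear hy
      induction f using MvPolynomial.induction_on with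
      | C r => 
        rw [aeval_C]
        have : π (MvPolynomial.C r) = algebraMap R₀ C₀ r := rfl
        rw [this]
        simp
      | add f g hf hg =>
        have := Ideal.add_mem _ hf hg
        rw [map_add, map_add, map_add]
        convert this using 1
        ring
      | mul_X f j hf =>
        have h1 : π (X j) - algebraMap R₀ C₀ (x₀ j) ∈ Ideal.span (Set.range fun l ↦ π (α₀ l)) := by
          have h2 := congrArg π (F3 j)
          have h3 : ∑ k, π (e₀ j k * rel₀ k) = 0 := Finset.sum_eq_zero fun k _ ↦ by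
            rw [map_mul, hπrel, mul_zero]
          rw [map_sub, map_sub, map_sum, map_sum, h3, sub_eq_zero] at h2
          have h4 : π (MvPolynomial.C (x₀ j)) = algebraMap R₀ C₀ (x₀ j) := rfl
          rw [h4] at h2
          rw [h2]
          refine Ideal.sum_mem _ fun l _ ↦ ?_
          rw [map_mul]
          exact Ideal.mul_mem_left _ _ (Ideal.subset_span ⟨l, rfl⟩)
        have h5 := Ideal.add_mem _ (Ideal.mul_mem_right (π (X j)) _ hf)
          (Ideal.mul_mem_left _ (algebraMap R₀ C₀ (aeval x₀ f)) h1)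
        rw [map_mul, map_mul, map_mul, aeval_X]
        convert h5 using 1
        ring
    rw [hε₀] at hy
    rw [hy, map_zero, sub_zero] at key
    exact key
  have hft : Algebra.FiniteType ℚ R₀ := R₀.fg_iff_finiteType.mp hfg
  have hnoeth : IsNoetherianRing R₀ := Algebra.FiniteType.isNoetherianRing ℚ R₀
  let e := P.tensorModelOfHasCoeffsEquiv R₀
  let _ : Algebra C₀ C := (e.toAlgHom.toRingHom.comp
    (Algebra.TensorProduct.includeRight : C₀ →ₐ[R₀] A ⊗[R₀] C₀).toRingHom).toAlgebra
  have hC₀C : ∀ f, algebraMap C₀ C (π f) = aeval P.val (μ f) := by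
    intro f
    have h1 : algebraMap C₀ C (π f) = P.tensorModelOfHasCoeffsEquiv R₀ ((1 : A) ⊗ₜ π f) := rfl
    rw [h1]
    have h2 := P.tensorModelOfHasCoeffsEquiv_tmul R₀ (1 : A) f
    rw [map_one, one_mul] at h2
    rw [hμdef, MvPolynomial.aeval_map_algebraMap A]
    exact h2
  have : IsScalarTower R₀ C₀ C := by
    refine IsScalarTower.of_algebraMap_eq (R := R₀) (S := C₀) (A := C) fun r ↦ ?_
    have h1 : algebraMap R₀ C₀ r = π (MvPolynomial.C r) := rfl
    rw [h1, hC₀C, hμC, aeval_C]
    exact IsScalarTower.algebraMap_apply R₀ A C r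
  have hpush : Algebra.IsPushout R₀ A C₀ C := by
    exact isPushout_of_equiv e (fun _ ↦ rfl)
  have hεc : ∀ y, ε (algebraMap C₀ C y) = algebraMap R₀ A (ε₀ y) := by
    intro y
    obtain ⟨f, rfl⟩ := hπ y
    rw [hC₀C, hε₀, hev]
  have hq₀ : ∀ y, ε₀ y = 0 → y ∈ q.comap (algebraMap C₀ C) := by
    intro y hy
    apply hq
    rw [hεc, hy, map_zero]
  have hsm : Algebra.IsSmoothAt R₀ (q.comap (algebraMap C₀ C)) :=
    K208.JacZero.isSmoothAt_of_noeth ε₀ (fun l ↦ π (α₀ l)) (fun l ↦ by rw [hε₀, hevα]) D₀ hD₀' hJ₀ _ hq₀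
  have hflat := flat_localization_of_isSmoothAt (R := R₀) (q.comap (algebraMap C₀ C))
  exact (Groth.Agent.Smoothlim.SmoothDescent.isSmoothAt_iff_of_isPushout (R := R₀) (A := C₀)
    (R' := A) (A' := C) q _ rfl (Or.inl hflat)).mp hsm

end K208.JacDesc
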