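import Mathlib
import Groth.Agent.SGA3.K208.JacDesc

/-!
# The Jacobian criterion along a section in characteristic zero

An algebra of finite presentation with a retraction over a `ℚ`-algebra, whose module of differentials is
projective, is smooth along the retraction.
-/

set_option autoImplicit false

universe u

open MvPolynomial TensorProduct KaehlerDifferential

namespace K208.JacLoc

variable {A C : Type u} [CommRing A] [CommRing C] [Algebra A C] (ε : C →ₐ[A] A)

/-- Differentials are differentials of elements of the augmentation ideal. -/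
theorem D_sub (c : C) : D A C c = D A C (c - algebraMap A C (ε c)) := by
  rw [map_sub, Derivation.map_algebraMap, sub_zero]

theorem eps_sub (c : C) : ε (c - algebraMap A C (ε c)) = 0 := by
  rw [map_sub, AlgHom.commutes]
  simp

theorem eps_surjective : Function.Surjective ε := fun x ↦ ⟨algebraMap A C x, by simp⟩

/-- A linear map from the differentials to `ker ε / (I + (ker ε) ^ 2)`. -/
theorem exists_linearMap (N : Ideal C) (hN : ∀ x y, ε x = 0 → ε y = 0 → x * y ∈ N) :
    ∃ f : Ω[C⁄A] →ₗ[C] C ⧸ N, ∀ c, ε c = 0 → f (D A C c) = Ideal.Quotient.mk N c := by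
  let δ : Derivation A C (C ⧸ N) := Derivation.mk'
    ((Ideal.Quotient.mkₐ A N).toLinearMap ∘ₗ
      (LinearMap.id - (Algebra.linearMap A C) ∘ₗ ε.toLinearMap)) (by
      intro x y
      change Ideal.Quotient.mk N (x * y - algebraMap A C (ε (x * y))) =
        Ideal.Quotient.mk N (x * (y - algebraMap A C (ε y))) +
        Ideal.Quotient.mk N (y * (x - algebraMap A C (ε x)))
      rw [← map_add, Ideal.Quotient.eq]
      have := N.neg_mem (hN _ _ (eps_sub ε x) (eps_sub ε y))
      convert this using 1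
      rw [map_mul, map_mul]
      ring)
  refine ⟨δ.liftKaehlerDifferential, fun c hc ↦ ?_⟩
  rw [Derivation.liftKaehlerDifferential_comp_D]
  change Ideal.Quotient.mk N (c - algebraMap A C (ε c)) = _
  rw [hc, map_zero, sub_zero]

/-- The augmentation ideal is generated modulo its square by elements whose differentials generate
locally. -/
theorem le_sup_of_span [IsLocalRing A] {κ : Type*} (a : κ → C) (ha : ∀ i, ε (a i) = 0)
    (hspan : ∀ c : C, ∃ s : C, ε s ∉ IsLocalRing.maximalIdeal A ∧
      s • D A C c ∈ Submodule.span C (Set.range fun i ↦ D A C (a i))) (c : C) (hc : ε c = 0) :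
    c ∈ Ideal.span (Set.range a) ⊔ (RingHom.ker ε) * (RingHom.ker ε) := by
  obtain ⟨f, hf⟩ := exists_linearMap ε (Ideal.span (Set.range a) ⊔ (RingHom.ker ε) * (RingHom.ker ε))
    (fun x y hx hy ↦ Ideal.mem_sup_right (Ideal.mul_mem_mul hx hy))
  obtain ⟨s, hs, hs'⟩ := hspan c
  have h1 : f (s • D A C c) = 0 := by
    refine Submodule.span_induction (p := fun x _ ↦ f x = 0) ?_ (map_zero _) ?_ ?_ hs'
    · rintro _ ⟨i, rfl⟩
      rw [hf _ (ha i)]
      exact Ideal.Quotient.eq_zero_iff_mem.mpr (Ideal.mem_sup_left (Ideal.subset_span ⟨i, rfl⟩))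
    · intro y z _ _ hy hz
      rw [map_add, hy, hz, add_zero]
    · intro r y _ hy
      rw [map_smul, hy, smul_zero]
  rw [map_smul, hf c hc] at h1
  have h2 : s * c ∈ Ideal.span (Set.range a) ⊔ (RingHom.ker ε) * (RingHom.ker ε) :=
    Ideal.Quotient.eq_zero_iff_mem.mp h1
  have h3 : (s - algebraMap A C (ε s)) * c ∈
      Ideal.span (Set.range a) ⊔ (RingHom.ker ε) * (RingHom.ker ε) :=
    Ideal.mem_sup_right (Ideal.mul_mem_mul (eps_sub ε s) hc)
  have h4 : algebraMap A C (ε s) * c ∈
      Ideal.span (Set.range a) ⊔ (RingHom.ker ε) * (RingHom.ker ε) := by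
    have := Ideal.sub_mem _ h2 h3
    convert this using 1
    ring
  have h5 : IsUnit (algebraMap A C (ε s)) := by
    apply IsUnit.map
    by_contra h
    exact hs ((IsLocalRing.mem_maximalIdeal _).mpr h)
  exact (Ideal.unit_mul_mem_iff_mem _ h5).mp h4

/-- Over a local base: local generators of the augmentation ideal whose differentials form a basis. -/
theorem exists_basis [IsLocalRing A] [Algebra.FinitePresentation A C] [Module.Projective C Ω[C⁄A]]
    (q : Ideal C) [q.IsPrime] (hq : ∀ c, c ∈ q ↔ ε c ∈ IsLocalRing.maximalIdeal A) :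
    ∃ (κ : Type u) (_ : Finite κ) (a : κ → C) (g : C), (∀ i, ε (a i) = 0) ∧ g ∉ q ∧
      (∃ b : Module.Basis κ (Localization.Away g) (Ω[Localization.Away g⁄A]),
        ∀ i, b i = D A _ (algebraMap C _ (a i))) ∧
      ∀ c, ε c = 0 → g * c ∈ Ideal.span (Set.range a) := by
  let B := Localization.AtPrime q
  have hfe : Algebra.FormallyEtale C B := Algebra.FormallyEtale.of_isLocalization q.primeCompl
  have hproj : Module.Projective B Ω[B⁄A] :=
    Module.Projective.of_equiv (tensorKaehlerEquivOfFormallyEtale A C B)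
  have hfin : Module.Finite B Ω[B⁄A] :=
    Module.Finite.equiv (tensorKaehlerEquivOfFormallyEtale A C B)
  have hfp : Module.FinitePresentation B Ω[B⁄A] := Module.finitePresentation_of_projective _ _
  have hspan : Submodule.span B (Set.range fun j : RingHom.ker ε ↦ map A A C B (D A C j)) = ⊤ := by
    rw [eq_top_iff, ← span_range_map_derivation_of_isLocalization A C B q.primeCompl]
    apply Submodule.span_mono
    rintro _ ⟨c, rfl⟩
    refine ⟨⟨_, eps_sub ε c⟩, ?_⟩
    simp only [Function.comp_apply]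
    rw [D_sub ε c]
  obtain ⟨κ, a, b, hb⟩ := Module.exists_basis_of_span_of_flat _ hspan
  let e : (κ →₀ C) →ₗ[C] Ω[C⁄A] :=
    Finsupp.linearCombination C fun i : κ ↦ D A C (a i)
  let l₁ : (κ →₀ C) →ₗ[C] (κ →₀ B) :=
    Finsupp.mapRange.linearMap (Algebra.linearMap C B)
  let l₂ : Ω[C⁄A] →ₗ[C] Ω[B⁄A] := map A A C B
  let eₚ : (κ →₀ B) →ₗ[B] Ω[B⁄A] :=
    IsLocalizedModule.mapExtendScalars q.primeCompl l₁ l₂ B e
  have : eₚ = b.repr.symm := by
    ext i
    trans IsLocalizedModule.map q.primeCompl l₁ l₂ e <| l₁ <| Finsupp.single i 1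
    · simp [eₚ, -IsLocalizedModule.map_apply, l₁]
    · simp [l₂, e, hb]
  have heₚ : Function.Bijective eₚ := this ▸ b.repr.symm.bijective
  have hκ : Finite κ := Module.Finite.finite_basis b
  obtain ⟨g, hg, h⟩ := exists_bijective_map_powers q.primeCompl l₁ l₂ e heₚ
  have ha : ∀ i, ε (a i) = 0 := fun i ↦ (a i).2
  have hspan' : ∀ c : C, ∃ s : C, ε s ∉ IsLocalRing.maximalIdeal A ∧
      s • D A C c ∈ Submodule.span C (Set.range fun i ↦ D A C (a i : C)) := by
    intro c
    obtain ⟨y, hy⟩ := heₚ.2 (l₂ (D A C c))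
    obtain ⟨⟨x, s⟩, hxs⟩ := IsLocalizedModule.surj q.primeCompl l₁ y
    have h1 : l₂ ((s : C) • D A C c - e x) = 0 := by
      rw [map_sub, map_smul, ← hy, sub_eq_zero]
      have h2 : (s : C) • eₚ y = eₚ ((s : C) • y) := by
        rw [← IsScalarTower.algebraMap_smul B (s : C) y, map_smul, IsScalarTower.algebraMap_smul]
      rw [h2]
      have h3 : (s : C) • y = l₁ x := hxs
      rw [h3]
      exact IsLocalizedModule.map_apply q.primeCompl l₁ l₂ e x
    obtain ⟨s', hs'⟩ := (IsLocalizedModule.eq_zero_iff q.primeCompl l₂).mp h1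
    refine ⟨s' * s, ?_, ?_⟩
    · intro hmem
      have h2 : (s' : C) * s ∈ q := (hq _).mpr hmem
      exact (q.primeCompl.mul_mem s'.2 s.2) h2
    · have h2 : (s' : C) • ((s : C) • D A C c - e x) = 0 := hs'
      rw [smul_sub, sub_eq_zero, smul_smul] at h2
      rw [h2]
      apply Submodule.smul_mem
      rw [← Finsupp.range_linearCombination]
      exact ⟨x, rfl⟩
  have hJfg : (RingHom.ker ε).FG := by
    have := Algebra.FinitePresentation.ker_fG_of_surjective ε (eps_surjective ε)
    exact this
  obtain ⟨e₁, he₁, he₁'⟩ := Submodule.exists_sub_one_mem_and_smul_le_of_fg_of_le_sup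
    (I := RingHom.ker ε) (N := Ideal.span (Set.range fun i ↦ (a i : C))) (N' := RingHom.ker ε)
    (P := RingHom.ker ε) hJfg le_rfl (fun c hc ↦ le_sup_of_span ε _ ha hspan' c hc)
  have he₁q : e₁ ∉ q := by
    rw [hq]
    have : ε e₁ = 1 := by
      have h2 : ε (e₁ - 1) = 0 := he₁
      rwa [map_sub, map_one, sub_eq_zero] at h2
    rw [this]
    exact fun h2 ↦ (Ideal.ne_top_iff_one _).mp (IsLocalRing.maximalIdeal.isMaximal A).ne_top h2
  have h := h (g * e₁) (dvd_mul_right _ _)
  refine ⟨κ, hκ, fun i ↦ a i, g * e₁, ha, ?_, ?_, ?_⟩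
  · exact fun h2 ↦ (‹q.IsPrime›.mem_or_mem h2).elim hg he₁q
  · generalize g * e₁ = g at h
    let l₁ₜ : (κ →₀ C) →ₗ[C] (κ →₀ Localization.Away g) :=
      Finsupp.mapRange.linearMap (Algebra.linearMap C _)
    let l₂ₜ : Ω[C⁄A] →ₗ[C] Ω[Localization.Away g⁄A] :=
      map A A C (Localization.Away g)
    rw [← IsLocalizedModule.map_bijective_iff_localizedModuleMap_bijective l₁ₜ l₂ₜ] at h
    let eₜ' : (κ →₀ Localization.Away g) →ₗ[Localization.Away g] Ω[Localization.Away g⁄A] :=
      IsLocalizedModule.mapExtendScalars (Submonoid.powers g) l₁ₜ l₂ₜ (Localization.Away g) e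
    refine ⟨.ofRepr (LinearEquiv.ofBijective eₜ' h).symm, fun i ↦ ?_⟩
    simp +zetaDelta [IsLocalizedModule.map_linearCombination]
  · intro c hc
    have h2 : e₁ • c ∈ Ideal.span (Set.range fun i ↦ (a i : C)) :=
      he₁' (Submodule.smul_mem_pointwise_smul c e₁ _ hc)
    rw [mul_assoc]
    exact Ideal.mul_mem_left _ _ h2

/-- Smoothness along a section over a local `ℚ`-algebra. -/
theorem isSmoothAt_local [Algebra ℚ A] [IsLocalRing A] [Algebra.FinitePresentation A C]
    [Module.Projective C Ω[C⁄A]] (q : Ideal C) [q.IsPrime]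
    (hq : ∀ c, c ∈ q ↔ ε c ∈ IsLocalRing.maximalIdeal A) : Algebra.IsSmoothAt A q := by
  classical
  obtain ⟨κ, hκ, a, g, ha, hg, ⟨b, hb⟩, hJ⟩ := exists_basis ε q hq
  obtain ⟨n, ⟨eκ⟩⟩ := Finite.exists_equiv_fin κ
  let C' := Localization.Away g
  have hfp' : Algebra.FinitePresentation C C' := IsLocalization.Away.finitePresentation g
  have hfp : Algebra.FinitePresentation A C' := .trans A C C'
  have hεg : IsUnit (ε g) := by
    by_contra h
    exact hg ((hq g).mpr ((IsLocalRing.mem_maximalIdeal _).mpr h))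
  let ε' : C' →ₐ[A] A := IsLocalization.liftAlgHom (M := Submonoid.powers g) (f := ε) (by
    rintro ⟨_, k, rfl⟩
    simp only [map_pow]
    exact hεg.pow k)
  have hε' : ∀ c, ε' (algebraMap C C' c) = ε c := fun c ↦ IsLocalization.lift_eq _ _
  let a' : Fin n → C' := fun i ↦ algebraMap C C' (a (eκ.symm i))
  let D' : Fin n → Derivation A C' C' := fun i ↦ (b.coord (eκ.symm i)).compDer (D A C')
  have hD' : ∀ i j, D' i (a' j) = if i = j then 1 else 0 := by
    intro i j
    change b.coord (eκ.symm i) (D A C' (algebraMap C C' (a (eκ.symm j)))) = _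
    rw [← hb, Module.Basis.coord_apply, Module.Basis.repr_self, Finsupp.single_apply]
    simp only [EmbeddingLike.apply_eq_iff_eq, eq_comm]
  have ha' : ∀ i, ε' (a' i) = 0 := fun i ↦ by rw [hε', ha]
  have hJ' : ∀ x, ε' x = 0 → x ∈ Ideal.span (Set.range a') := by
    intro x hx
    obtain ⟨c, ⟨_, k, rfl⟩, hc⟩ := IsLocalization.exists_mk'_eq (Submonoid.powers g) x
    have h1 : x * algebraMap C C' (g ^ k) = algebraMap C C' c := by
      rw [← hc]
      exact IsLocalization.mk'_spec _ _ _
    have h2 : ε c = 0 := by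
      rw [← hε', ← h1, map_mul, hx, zero_mul]
    have h3 : algebraMap C C' (g * c) ∈ Ideal.span (Set.range a') := by
      have h4 := Ideal.mem_map_of_mem (algebraMap C C') (hJ c h2)
      rw [Ideal.map_span, ← Set.range_comp] at h4
      refine Ideal.span_mono ?_ h4
      rintro _ ⟨i, rfl⟩
      exact ⟨eκ i, by simp [a']⟩
    have h5 : IsUnit (algebraMap C C' g) := IsLocalization.Away.algebraMap_isUnit g
    have h6 : x * (algebraMap C C' g ^ k * algebraMap C C' g) ∈ Ideal.span (Set.range a') := by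
      have : x * (algebraMap C C' g ^ k * algebraMap C C' g) = algebraMap C C' (g * c) := by
        rw [map_mul, ← h1, map_pow]
        ring
      rw [this]
      exact h3
    exact (Ideal.mul_unit_mem_iff_mem _ ((h5.pow k).mul h5)).mp h6
  let q' : Ideal C' := (IsLocalRing.maximalIdeal A).comap ε'
  have hsm : Algebra.IsSmoothAt A q' := K208.JacDesc.isSmoothAt_of_section ε' a' ha' D' hD' hJ' q'
    (fun x hx ↦ by
      change ε' x ∈ IsLocalRing.maximalIdeal A
      rw [hx]
      exact zero_mem _)
  have h1 : (⟨q', inferInstance⟩ : PrimeSpectrum C') ∈ Algebra.smoothLocus A C' := hsm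
  rw [← Algebra.smoothLocus_comap_of_isLocalization (A := C) g] at h1
  have h2 : PrimeSpectrum.comap (algebraMap C C') ⟨q', inferInstance⟩ = ⟨q, inferInstance⟩ := by
    ext c
    change ε' (algebraMap C C' c) ∈ IsLocalRing.maximalIdeal A ↔ c ∈ q
    rw [hε', ← hq]
  have h3 : PrimeSpectrum.comap (algebraMap C C') ⟨q', inferInstance⟩ ∈ Algebra.smoothLocus A C := h1
  rw [h2] at h3
  exact h3

attribute [local instance] Algebra.TensorProduct.rightAlgebra in
/-- **The Jacobian criterion along a section in characteristic zero**: an algebra of finite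
presentation over a `ℚ`-algebra whose module of differentials is projective is smooth along any
retraction. -/
theorem isSmoothAt [Algebra ℚ A] [Algebra.FinitePresentation A C]
    [Module.Projective C Ω[C⁄A]] (p : Ideal A) [p.IsPrime] (q : Ideal C) [q.IsPrime]
    (hq : ∀ c, c ∈ q ↔ ε c ∈ p) : Algebra.IsSmoothAt A q := by
  let A' := Localization.AtPrime p
  let C' := A' ⊗[A] C
  let ε' : C' →ₐ[A'] A' := Algebra.TensorProduct.lift (AlgHom.id A' A') ((Algebra.ofId A A').comp ε)
    (fun _ _ ↦ Commute.all _ _)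
  have hε' : ∀ c : C, ε' (algebraMap C C' c) = algebraMap A A' (ε c) := by
    intro c
    change ε' (1 ⊗ₜ c) = _
    rw [Algebra.TensorProduct.lift_tmul, map_one, one_mul]
    rfl
  have hproj : Module.Projective C' Ω[C'⁄A'] :=
    Module.Projective.of_equiv (KaehlerDifferential.tensorKaehlerEquiv A A' C C')
  let q' : Ideal C' := (IsLocalRing.maximalIdeal A').comap ε'
  have h1 : Algebra.IsSmoothAt A' q' := isSmoothAt_local ε' q' (fun c ↦ Iff.rfl)
  have hq' : q = q'.comap (algebraMap C C') := by
    ext c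
    rw [hq]
    change _ ↔ ε' (algebraMap C C' c) ∈ IsLocalRing.maximalIdeal A'
    rw [hε']
    exact (IsLocalization.AtPrime.to_map_mem_maximal_iff A' p _).symm
  exact (Groth.Agent.Smoothlim.SmoothDescent.isSmoothAt_iff_of_isPushout (R := A) (A := C)
    (R' := A') (A' := C') q' q hq' (Or.inr inferInstance)).mpr h1

end K208.JacLoc
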