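import Mathlib
import Groth.Agent.SGA3.K208.JacLoc
import Groth.Agent.Smoothlim.ConormalRes
import Groth.Agent.Smoothlim.OmegaSpec
import Groth.Agent.PerfC.TildeFLF
import Groth.Agent.PerfC.PullRestrict
import Groth.Agent.Dcoh.FinLocFree

/-!
# The Jacobian criterion along a section in characteristic zero, for schemes
-/

set_option autoImplicit false

universe u

open CategoryTheory AlgebraicGeometry TopologicalSpace

namespace K208.JacSch

/-- A ring all of whose residue fields have characteristic zero is a `ℚ`-algebra. -/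
theorem nonempty_algebraRat (A : Type u) [CommRing A]
    (h : ∀ p : PrimeSpectrum A, ∃ (K : Type u) (_ : Field K) (_ : CharZero K) (φ : A →+* K),
      ∀ a ∈ p.asIdeal, φ a = 0) : Nonempty (Algebra ℚ A) := by
  rw [EqualCharZero.nonempty_algebraRat_iff]
  intro I hI
  obtain ⟨m, hm, hIm⟩ := Ideal.exists_le_maximal I hI
  obtain ⟨K, _, _, φ, hφ⟩ := h ⟨m, hm.isPrime⟩
  exact (Ideal.Quotient.lift I φ (fun a ha ↦ hφ a (hIm ha))).charZero

theorem nonempty_algebraRat_of_spec {S : Scheme.{u}} (hS : ∀ x : S, CharZero (S.residueField x))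
    (A : CommRingCat.{u}) (j : Spec A ⟶ S) : Nonempty (Algebra ℚ A) := by
  apply nonempty_algebraRat
  intro p
  have := hS (j p)
  have h1 : CharZero ((Spec A).residueField p) :=
    charZero_of_injective_ringHom (j.residueFieldMap p).hom.injective
  let ψ : A ⟶ (Spec A).residueField p := Spec.preimage ((Spec A).fromSpecResidueField p)
  have hψ : Spec.map ψ = (Spec A).fromSpecResidueField p := Spec.map_preimage _
  refine ⟨(Spec A).residueField p, inferInstance, h1, ψ.hom, fun a ha ↦ ?_⟩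
  have h2 : Spec.map ψ (IsLocalRing.closedPoint ((Spec A).residueField p)) = p := by
    rw [hψ]
    exact Scheme.fromSpecResidueField_apply _ _
  have h3 : a ∈ (Spec.map ψ (IsLocalRing.closedPoint ((Spec A).residueField p))).asIdeal := by
    rw [h2]
    exact ha
  have h4 : ψ.hom a ∈ IsLocalRing.maximalIdeal ((Spec A).residueField p) := h3
  rwa [IsLocalRing.maximalIdeal_eq_bot] at h4

/-- Smoothness along a section. -/
theorem mem_smoothLocus {X S : Scheme.{u}} (f : X ⟶ S) [LocallyOfFinitePresentation f]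
    [QuasiSeparated f] (e : S ⟶ X) (he : e ≫ f = 𝟙 S)
    (hS : ∀ x : S, CharZero (S.residueField x)) (hΩ : FlatMod.IsFinLocFree (Omega.sheaf f)) (s : S) :
    e s ∈ f.smoothLocus := by
  have hfe : ∀ t, f (e t) = t := fun t ↦ by
    rw [← Scheme.Hom.comp_apply, he]
    rfl
  obtain ⟨_, ⟨U, hU, rfl⟩, hsU, -⟩ :=
    S.isBasis_affineOpens.exists_subset_of_mem_open (Set.mem_univ s) isOpen_univ
  obtain ⟨_, ⟨V, hV, rfl⟩, hxV, hVU⟩ :=
    X.isBasis_affineOpens.exists_subset_of_mem_open (a := e s) (u := (f ⁻¹ᵁ U : Set X))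
      (by change f (e s) ∈ U; rw [hfe]; exact hsU) (f ⁻¹ᵁ U).isOpen
  obtain ⟨a, haU, hsa⟩ := hU.exists_basicOpen_le (V := e ⁻¹ᵁ V) ⟨s, hxV⟩ hsU
  let U' := S.basicOpen a
  have hU' : IsAffineOpen U' := hU.basicOpen a
  let V' := X.basicOpen (f.appLE U V hVU a)
  have hV' : IsAffineOpen V' := hV.basicOpen _
  have hV'V : V' ≤ V := X.basicOpen_le _
  have hV'eq : V' = V ⊓ f ⁻¹ᵁ U' := Scheme.basicOpen_appLE f V U hVU a
  have hV'U' : V' ≤ f ⁻¹ᵁ U' := hV'eq.trans_le inf_le_right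
  have hU'V' : U' ≤ e ⁻¹ᵁ V' := by
    intro t ht
    change e t ∈ V'
    rw [hV'eq]
    refine ⟨haU ht, ?_⟩
    change f (e t) ∈ U'
    rw [hfe]
    exact ht
  have hsU' : s ∈ U' := hsa
  have hxV' : e s ∈ V' := hU'V' hsU'
  let φ := f.appLE U' V' hV'U'
  let ψ := e.appLE V' U' hU'V'
  have hφψ : φ ≫ ψ = 𝟙 _ := by
    change f.appLE U' V' hV'U' ≫ e.appLE V' U' hU'V' = _
    rw [Scheme.Hom.appLE_comp_appLE]
    have : ∀ (g : S ⟶ S) (hg : g = 𝟙 S) (h : U' ≤ g ⁻¹ᵁ U'), g.appLE U' U' h = 𝟙 _ := by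
      rintro g rfl h
      change 𝟙 _ ≫ S.presheaf.map (homOfLE h).op = _
      rw [Category.id_comp]
      exact S.presheaf.map_id _
    exact this _ he _
  let _ : Algebra Γ(S, U') Γ(X, V') := φ.hom.toAlgebra
  have hfp : Algebra.FinitePresentation Γ(S, U') Γ(X, V') := f.finitePresentation_appLE hU' hV' hV'U'
  let ε : Γ(X, V') →ₐ[Γ(S, U')] Γ(S, U') :=
    { ψ.hom with
      commutes' := fun r ↦ by
        change (φ ≫ ψ).hom r = r
        rw [hφψ]
        rfl }
  obtain ⟨hQ⟩ := nonempty_algebraRat_of_spec hS Γ(S, U') hU'.fromSpec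
  have hsq : hV'.fromSpec ≫ f =
      Spec.map (CommRingCat.ofHom (algebraMap Γ(S, U') Γ(X, V'))) ≫ hU'.fromSpec := by
    exact (IsAffineOpen.SpecMap_appLE_fromSpec f hU' hV' hV'U').symm
  have hflf := Groth.Agent.PerfC.PullRestrict.isFinLocFree_pullback hV'.fromSpec hΩ
  have hflf2 := Groth.Agent.Dcoh.FinLocFree.isFinLocFree_of_iso
    (Groth.Agent.Smoothlim.ConormalRes.omegaRestrictIso hsq) hflf
  have hflf3 := Groth.Agent.Dcoh.FinLocFree.isFinLocFree_of_iso
    (Groth.Agent.Smoothlim.OmegaSpec.omegaSpecIso _ _) hflf2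
  obtain ⟨-, hproj⟩ := Groth.Agent.PerfC.TildeFLF.finProj_of_isFinLocFree _ _ hflf3
  have hproj' : Module.Projective Γ(X, V') (Ω[Γ(X, V')⁄Γ(S, U')]) := hproj
  rw [Scheme.Hom.mem_smoothLocus, formallySmooth_stalkMap_iff U' hU' V' hV' hV'U' hxV']
  refine K208.JacLoc.isSmoothAt ε (hU'.primeIdealOf ⟨s, hsU'⟩).asIdeal _ (fun c ↦ ?_)
  have := IsAffineOpen.comap_primeIdealOf_appLE V' hV' U' hU' hU'V' hsU'
  rw [← this]
  rfl

end K208.JacSch
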