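import Groth.Agent.S4787
import Groth.Agent.S15543
import Groth.Agent.S15542
import Mathlib.CategoryTheory.Filtered.Final

/-!
# Limits of schemes and ind-constructible sets at one stage
-/

set_option autoImplicit false

universe u

open CategoryTheory Limits AlgebraicGeometry

namespace K208.LimSet

/-- If `E` is pro-constructible and `F` ind-constructible at the stage `i` of a cofiltered limit with
affine transition maps, and the preimage of `E` in the limit is contained in that of `F`, then this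
happens already at some stage over `i`. -/
theorem exists_preimage_subset {I : Type u} [SmallCategory I] [IsCofiltered I]
    (D : I ⥤ Scheme.{u}) (c : Limits.Cone D) (hc : Limits.IsLimit c)
    [∀ (i j : I) (f : i ⟶ j), IsAffineHom (D.map f)] (i : I)
    [CompactSpace (D.obj i)] (E F : Set (D.obj i))
    (hE : ProCons.IsProConstructible E) (hF : ProCons.IsIndConstructible F)
    (h : (c.π.app i) ⁻¹' E ⊆ (c.π.app i) ⁻¹' F) :
    ∃ (j : I) (f : j ⟶ i), (D.map f) ⁻¹' E ⊆ (D.map f) ⁻¹' F := by
  let D' : Over i ⥤ Scheme.{u} := Over.forget i ⋙ D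
  let c' : Cone D' := c.whisker (Over.forget i)
  have hc' : IsLimit c' := (Functor.Initial.isLimitWhiskerEquiv _ _).symm hc
  have : ∀ (k l : Over i) (f : k ⟶ l), IsAffineHom (D'.map f) := fun k l f ↦
    inferInstanceAs (IsAffineHom (D.map f.left))
  have : CompactSpace (D'.obj (Over.mk (𝟙 i))) := inferInstanceAs (CompactSpace (D.obj i))
  let E' : ∀ k : Over i, Set (D'.obj k) := fun k ↦ (D.map k.hom) ⁻¹' E
  let F' : ∀ k : Over i, Set (D'.obj k) := fun k ↦ (D.map k.hom) ⁻¹' F
  have hcomp : ∀ (k l : Over i) (φ : k ⟶ l) (x : D'.obj k), D.map l.hom (D.map φ.left x) =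
      D.map k.hom x := by
    intro k l φ x
    rw [← Over.w φ, Functor.map_comp, Scheme.Hom.comp_apply]
  have h1 := (Groth.Agent.S4787.result D' c' hc' (Over.mk (𝟙 i)) E' F'
    (fun k ↦ Groth.Agent.S15542.result _ _ hE) (fun k ↦ Groth.Agent.S15543.result _ _ hF)
    (fun k l φ x hx ↦ by
      change D.map l.hom (D.map φ.left x) ∈ E
      rw [hcomp]
      exact hx)
    (fun k l φ x hx ↦ by
      change D.map k.hom x ∈ F
      rw [← hcomp k l φ]
      exact hx)).mp (by
      intro x hx
      rw [Set.mem_iInter] at hx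
      rw [Set.mem_iUnion]
      refine ⟨Over.mk (𝟙 i), ?_⟩
      have h2 : ∀ y : c.pt, D.map (𝟙 i) (c.π.app i y) = c.π.app i y := by
        intro y
        rw [← Scheme.Hom.comp_apply, D.map_id, Category.comp_id]
      have h3 := hx (Over.mk (𝟙 i))
      change D.map (𝟙 i) (c.π.app i x) ∈ E at h3
      change D.map (𝟙 i) (c.π.app i x) ∈ F
      rw [h2] at h3 ⊢
      exact h h3)
  obtain ⟨k, -, hk⟩ := h1
  exact ⟨k.left, k.hom, hk k (𝟙 k)⟩

/-- Case `E = univ`. -/
theorem exists_preimage_eq_univ {I : Type u} [SmallCategory I] [IsCofiltered I]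
    (D : I ⥤ Scheme.{u}) (c : Limits.Cone D) (hc : Limits.IsLimit c)
    [∀ (i j : I) (f : i ⟶ j), IsAffineHom (D.map f)] (i : I)
    [CompactSpace (D.obj i)] (F : Set (D.obj i)) (hF : ProCons.IsIndConstructible F)
    (h : ∀ x, c.π.app i x ∈ F) :
    ∃ (j : I) (f : j ⟶ i), ∀ x, D.map f x ∈ F := by
  obtain ⟨j, f, hf⟩ := exists_preimage_subset D c hc i Set.univ F
    (fun x ↦ ⟨Set.univ, isOpen_univ, trivial, ∅, by simp, by simp⟩) hF (fun x _ ↦ h x)
  exact ⟨j, f, fun x ↦ hf trivial⟩

end K208.LimSet
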