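import Groth.Agent.SGA3.K208.OrbComp
import Groth.Agent.S3015
import Groth.Agent.Ega43.FPOfComp

/-!
# Products of fibrewise dense opens of a group scheme
-/

set_option autoImplicit false

universe u

open CategoryTheory Limits MonoidalCategory CartesianMonoidalCategory MonObj GrpObj AlgebraicGeometry

namespace K208.FibMul

open Groth.Agent.Sga3C Transl IrrComp GenPts HomogIrr ActBase K208.OrbComp

section BC

variable {S S' : Scheme.{u}} (t : S' ⟶ S)

/-- The comparison `(G' ×_{S'} X') ⟶ G ×_S X`. -/
noncomputable def theta (G X : Over S) :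
    ((Over.pullback t).obj G ⊗ (Over.pullback t).obj X).left ⟶ (G ⊗ X).left :=
  (Functor.LaxMonoidal.μ (Over.pullback t) G X).left ≫ pullback.fst (G ⊗ X).hom t

theorem theta_fst (G X : Over S) : theta t G X ≫ (fst G X).left =
    (fst ((Over.pullback t).obj G) ((Over.pullback t).obj X)).left ≫ pullback.fst G.hom t := by
  rw [theta, Category.assoc, ← (isPullback_map_left t (fst G X)).w, ← Category.assoc,
    ← Over.comp_left, Functor.Monoidal.μ_fst]

theorem theta_snd (G X : Over S) : theta t G X ≫ (snd G X).left =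
    (snd ((Over.pullback t).obj G) ((Over.pullback t).obj X)).left ≫ pullback.fst X.hom t := by
  rw [theta, Category.assoc, ← (isPullback_map_left t (snd G X)).w, ← Category.assoc,
    ← Over.comp_left, Functor.Monoidal.μ_snd]

theorem theta_mul (G : Over S) [GrpObj G] :
    letI := Functor.grpObjObj (F := Over.pullback t) (G := G)
    theta t G G ≫ μ[G].left = (μ[(Over.pullback t).obj G]).left ≫ pullback.fst G.hom t := by
  let := Functor.grpObjObj (F := Over.pullback t) (G := G)
  change _ = (Functor.LaxMonoidal.μ (Over.pullback t) G G ≫ (Over.pullback t).map μ[G]).left ≫ _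
  rw [theta, Category.assoc, Over.comp_left, Category.assoc, (isPullback_map_left t μ[G]).w]

end BC

variable {S : Scheme.{u}} (G : Over S) [GrpObj G]

/-- If `O` is an open of `G` containing all maximal points of the fibre through `g`, then `g` is the
product of two points of `O`. -/
theorem exists_mul_eq (O : G.left.Opens) (g : G.left)
    (hO : ∀ z : ↥(G.hom.base ⁻¹' {G.hom g}),
      closure {z} ∈ irreducibleComponents ↥(G.hom.base ⁻¹' {G.hom g}) → z.1 ∈ O) :
    ∃ k : (G ⊗ G).left, (fst G G).left k ∈ O ∧ (snd G G).left k ∈ O ∧ μ[G].left k = g := by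
  let s : S := G.hom g
  let t : Spec (CommRingCat.of (S.residueField s)) ⟶ S := S.fromSpecResidueField s
  let := Functor.grpObjObj (F := Over.pullback t) (G := G)
  let G' := (Over.pullback t).obj G
  let h : G'.left ≃ₜ ↥(G.hom.base ⁻¹' {s}) := G.hom.fiberHomeo s
  let π : G'.left ⟶ G.left := pullback.fst G.hom t
  have hπ : ∀ z, (h z).1 = π z := fun z ↦ rfl
  let O' : G'.left.Opens := π ⁻¹ᵁ O
  have hO' : Dense (O' : Set G'.left) := by
    intro y
    obtain ⟨γ, hγ, hγy⟩ := exists_mem_genericPoints_specializes y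
    have h1 : closure {γ} ∈ irreducibleComponents G'.left := hγ
    have h2 := homeomorph_image_mem_irreducibleComponents h h1
    rw [h.image_closure, Set.image_singleton] at h2
    have h3 : γ ∈ O' := hO (h γ) h2
    exact closure_mono (Set.singleton_subset_iff.mpr h3) hγy.mem_closure
  obtain ⟨z, hz1, hz2, hz3⟩ := Groth.Agent.S3015.result (S.residueField s) G' O' O' hO' hO'
    (h.symm ⟨g, rfl⟩)
  have hg : π (h.symm ⟨g, rfl⟩) = g := by
    rw [← hπ, Homeomorph.apply_symm_apply]
  refine ⟨theta t G G z, ?_, ?_, ?_⟩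
  · rw [← Scheme.Hom.comp_apply, theta_fst]
    exact hz1
  · rw [← Scheme.Hom.comp_apply, theta_snd]
    exact hz2
  · rw [← Scheme.Hom.comp_apply, theta_mul, Scheme.Hom.comp_apply]
    exact (congrArg π hz3).trans hg

theorem mu_left_flat [Flat G.hom] : Flat μ[G].left := by
  have h1 : μ[G] = (GrpBasic.mulLeftShear (𝟙 G)).hom ≫ snd G G := by
    simp [GrpBasic.mulLeftShear, Hom.mul_def]
  have h2 : IsIso (GrpBasic.mulLeftShear (𝟙 G)).hom.left :=
    inferInstanceAs (IsIso ((Over.forget S).map (GrpBasic.mulLeftShear (𝟙 G)).hom))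
  rw [h1, Over.comp_left, Over.snd_left]
  infer_instance

theorem mu_left_lfp [LocallyOfFinitePresentation G.hom] : LocallyOfFinitePresentation μ[G].left := by
  have h1 : μ[G] = (GrpBasic.mulLeftShear (𝟙 G)).hom ≫ snd G G := by
    simp [GrpBasic.mulLeftShear, Hom.mul_def]
  have h2 : IsIso (GrpBasic.mulLeftShear (𝟙 G)).hom.left :=
    inferInstanceAs (IsIso ((Over.forget S).map (GrpBasic.mulLeftShear (𝟙 G)).hom))
  rw [h1, Over.comp_left, Over.snd_left]
  infer_instance

end K208.FibMul
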