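import Groth.Agent.SGA3.K208.HomogKey
import Groth.Agent.Sga3.H780.ActSep

/-!
# Separatedness and quasi-compactness of homogeneous spaces with connected fibres
-/

set_option autoImplicit false

universe u

open CategoryTheory Limits MonoidalCategory CartesianMonoidalCategory MonObj GrpObj AlgebraicGeometry

namespace K208.HomogSep

open Groth.Agent.Sga3C Transl IrrComp GenPts HomogIrr ActBase K208.OrbComp K208.HomogKey
open Groth.Agent.Sga3.H780.ActSep (act_cancel)

variable {S : Scheme.{u}} {G X : Over S} [GrpObj G] (a : AlgGrp.Action G X)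

/-- Under the hypotheses on the fibres, a nonempty open of the fibre is reached from any point by
the unit component. -/
theorem key' (hΦ : Surjective (lift a.act (snd G X)).left)
    (hqs : ∀ s : S, QuasiSeparatedSpace ↥(X.hom.base ⁻¹' {s}))
    (hconn : ∀ s : S, _root_.IsPreconnected (X.hom.base ⁻¹' {s})) (T : Over S) (t : T.left) :
    ∃ C : Set (T ⊗ G).left, IsIrreducible C ∧ (∀ w ∈ C, (fst T G).left w = t) ∧
      ((lift (𝟙 T) (1 : T ⟶ G)).left t ∈ C) ∧
      (∀ (x : T ⟶ X) (O : X.left.Opens), ((O : Set X.left) ∩ X.hom.base ⁻¹' {T.hom t}).Nonempty →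
        ∃ w ∈ C, (lift (snd T G) (fst T G ≫ x) ≫ a.act).left w ∈ O) := by
  obtain ⟨C, hC, h1, h2, h3⟩ := key a hΦ T t
  refine ⟨C, hC, h1, h2, fun x O hO ↦ ?_⟩
  have hxt : X.hom (x.left t) = T.hom t := by
    rw [← Scheme.Hom.comp_apply, Over.w x]
  have hirr := preirreducibleSpace_fiber a hΦ (T.hom t) (hqs _) (hconn _)
  obtain ⟨ξ, hξO, hξ, hξx⟩ : ∃ ξ : X.left, ξ ∈ O ∧ X.hom ξ = T.hom t ∧ ξ ⤳ x.left t := by
    have hr := X.hom.range_fiberι (T.hom t)
    obtain ⟨y, hy⟩ : x.left t ∈ Set.range (X.hom.fiberι (T.hom t)) := by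
      rw [hr]; exact hxt
    have : Nonempty (X.hom.fiber (T.hom t)) := ⟨y⟩
    have : IrreducibleSpace (X.hom.fiber (T.hom t)) := ⟨⟨y⟩⟩
    refine ⟨X.hom.fiberι (T.hom t) (genericPoint (X.hom.fiber (T.hom t))), ?_, ?_, ?_⟩
    · have h4 : IsOpen (X.hom.fiberι (T.hom t) ⁻¹' (O : Set X.left)) :=
        O.isOpen.preimage (X.hom.fiberι (T.hom t)).continuous
      have h5 := (genericPoint_spec ↥(X.hom.fiber (T.hom t))).mem_open_set_iff h4
      refine h5.mpr ?_
      obtain ⟨z, hzO, hz⟩ := hO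
      obtain ⟨z', hz'⟩ : z ∈ Set.range (X.hom.fiberι (T.hom t)) := by
        rw [hr]; exact hz
      exact ⟨z', trivial, by rw [Set.mem_preimage, hz']; exact hzO⟩
    · have h6 : X.hom.fiberι (T.hom t) (genericPoint (X.hom.fiber (T.hom t))) ∈
          Set.range (X.hom.fiberι (T.hom t)) := ⟨_, rfl⟩
      rw [hr] at h6
      exact h6
    · rw [← hy]
      exact (genericPoint_specializes y).map (X.hom.fiberι (T.hom t)).continuous
  obtain ⟨w, hw, hw'⟩ := h3 x ξ hξ hξx
  exact ⟨w, hw, by rw [hw']; exact hξO⟩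

omit [GrpObj G] in
/-- Opens of `T × W` are mapped to opens of `T` when `W ⟶ S` is universally open. -/
theorem isOpen_image_fst (T : Over S) (W : G.left.Opens) [UniversallyOpen (W.ι ≫ G.hom)]
    (O : Set (T ⊗ G).left) (hO : IsOpen O) (hOW : ∀ w ∈ O, (snd T G).left w ∈ W) :
    IsOpen ((fst T G).left '' O) := by
  let GW : Over S := Over.mk (W.ι ≫ G.hom)
  have : UniversallyOpen GW.hom := inferInstanceAs (UniversallyOpen (W.ι ≫ G.hom))
  let k : GW ⟶ G := Over.homMk W.ι
  let j : T ⊗ GW ⟶ T ⊗ G := T ◁ k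
  have h1 : IsOpenMap (fst T GW).left := by
    have : UniversallyOpen (fst T GW).left := by
      rw [Over.fst_left]
      infer_instance
    exact (fst T GW).left.isOpenMap
  have h2 : (fst T G).left '' O = (fst T GW).left '' (j.left ⁻¹' O) := by
    ext t
    constructor
    · rintro ⟨w, hw, rfl⟩
      obtain ⟨g, hg⟩ : (snd T G).left w ∈ Set.range W.ι := by
        rw [Scheme.Opens.range_ι]
        exact hOW w hw
      obtain ⟨V, v₁, v₂, z, hv, hv₁, hv₂⟩ := exists_common (snd T G) k w g hg.symm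
      have h3 : lift (v₁ ≫ fst T G) v₂ ≫ j = v₁ := by
        ext1
        · simp [j]
        · simp [j, hv]
      refine ⟨(lift (v₁ ≫ fst T G) v₂).left z, ?_, ?_⟩
      · rw [Set.mem_preimage, ← comp_left_apply, h3, hv₁]
        exact hw
      · rw [← comp_left_apply, lift_fst, comp_left_apply, hv₁]
    · rintro ⟨w, hw, rfl⟩
      refine ⟨j.left w, hw, ?_⟩
      rw [← comp_left_apply, whiskerLeft_fst]
  rw [h2]
  exact h1 _ (hO.preimage j.left.continuous)

theorem isSeparated (hΦ : Surjective (lift a.act (snd G X)).left)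
    (hGo : ∃ W : G.left.Opens, (∀ p : ↥(𝟙_ (Over S)).left, η[G].left.base p ∈ W) ∧
      UniversallyOpen (W.ι ≫ G.hom))
    (hqs : ∀ s : S, QuasiSeparatedSpace ↥(X.hom.base ⁻¹' {s}))
    (hconn : ∀ s : S, _root_.IsPreconnected (X.hom.base ⁻¹' {s})) : IsSeparated X.hom := by
  obtain ⟨W, heW, hW⟩ := hGo
  have himm : IsImmersion (pullback.diagonal X.hom) := inferInstance
  constructor
  suffices H : IsClosed (Set.range (pullback.diagonal X.hom)) by
    exact IsClosedImmersion.of_isPreimmersion _ H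
  let T : Over S := X ⊗ X
  let d : X ⟶ T := lift (𝟙 X) (𝟙 X)
  have hd : d.left = pullback.diagonal X.hom := rfl
  let P : Over S := T ⊗ G
  let q : P ⟶ T := fst T G
  let y : P ⟶ G := snd T G
  let α : P ⟶ X := lift y (q ≫ fst X X) ≫ a.act
  let β : P ⟶ X := lift y (q ≫ snd X X) ≫ a.act
  let φ : P ⟶ T := lift α β
  -- the two preimages of the diagonal agree
  have hpre : q.left ⁻¹' (Set.range d.left) = φ.left ⁻¹' (Set.range d.left) := by
    ext w
    constructor
    · intro hw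
      obtain ⟨E, h, h', hh, e, rfl⟩ := GrpSep.exists_lift_of_mem_range q d w hw
      have h1 : h ≫ φ = (h ≫ α) ≫ d := by
        have ha : h ≫ q ≫ fst X X = h' := by
          rw [← Category.assoc, hh, Category.assoc]; simp [d]
        have hb : h ≫ q ≫ snd X X = h' := by
          rw [← Category.assoc, hh, Category.assoc]; simp [d]
        have hab : h ≫ α = h ≫ β := by
          simp only [α, β, comp_lift_assoc, ha, hb]
        apply CartesianMonoidalCategory.hom_ext
        · simp [φ, d]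
        · simp [φ, d, hab]
      refine ⟨(h ≫ α).left e, ?_⟩
      rw [← Scheme.Hom.comp_apply, ← Scheme.Hom.comp_apply, ← Over.comp_left, ← Over.comp_left, h1]
    · intro hw
      obtain ⟨E, h, h', hh, e, rfl⟩ := GrpSep.exists_lift_of_mem_range φ d w hw
      have h1 : h ≫ q = (h ≫ q ≫ fst X X) ≫ d := by
        have ha : h ≫ α = h' := by
          have : h ≫ φ ≫ fst X X = h' := by rw [← Category.assoc, hh, Category.assoc]; simp [d]
          simpa [φ] using this
        have hb : h ≫ β = h' := by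
          have : h ≫ φ ≫ snd X X = h' := by rw [← Category.assoc, hh, Category.assoc]; simp [d]
          simpa [φ] using this
        have hab : h ≫ q ≫ fst X X = h ≫ q ≫ snd X X := by
          refine act_cancel a (h ≫ y) _ _ ?_
          rw [← comp_lift_assoc, ← comp_lift_assoc]
          exact ha.trans hb.symm
        apply CartesianMonoidalCategory.hom_ext
        · simp [d]
        · simp [d, hab]
      refine ⟨(h ≫ q ≫ fst X X).left e, ?_⟩
      rw [← Scheme.Hom.comp_apply, ← Scheme.Hom.comp_apply, ← Over.comp_left, ← Over.comp_left, h1]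
  rw [← hd, ← closure_subset_iff_isClosed]
  intro t' ht
  let t : T.left := t'
  -- a separated open neighbourhood of the first projection
  let x0 : X.left := (fst X X).left t
  have hx0 : X.hom x0 = T.hom t := by
    change X.hom ((fst X X).left t) = T.hom t
    rw [← Scheme.Hom.comp_apply, Over.w (fst X X)]
  obtain ⟨U, hxU, hU⟩ := GrpSep.exists_separated_nhd X.hom x0
  obtain ⟨C, hC, hC1, hC2, hC3⟩ := key' a hΦ hqs hconn T t
  obtain ⟨w, hwC, hwα, hwβ, hwW⟩ : ∃ w ∈ C, α.left w ∈ U ∧ β.left w ∈ U ∧ y.left w ∈ W := by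
    obtain ⟨w₁, hw₁, hw₁'⟩ := hC3 (fst X X) U ⟨x0, hxU, hx0⟩
    obtain ⟨w₂, hw₂, hw₂'⟩ := hC3 (snd X X) U ⟨x0, hxU, hx0⟩
    obtain ⟨w, hw, hw', hw''⟩ := hC.isPreirreducible (α.left ⁻¹' U) (β.left ⁻¹' U)
      (U.isOpen.preimage α.left.continuous) (U.isOpen.preimage β.left.continuous)
      ⟨w₁, hw₁, hw₁'⟩ ⟨w₂, hw₂, hw₂'⟩
    obtain ⟨v, hv, ⟨hv1, hv2⟩, hv3⟩ := hC.isPreirreducible (α.left ⁻¹' U ∩ β.left ⁻¹' U)
      (y.left ⁻¹' W) ((U.isOpen.preimage α.left.continuous).inter
        (U.isOpen.preimage β.left.continuous)) (W.isOpen.preimage y.left.continuous)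
      ⟨w, hw, hw', hw''⟩ ⟨_, hC2, by
        rw [Set.mem_preimage, ← comp_left_apply, lift_snd, Hom.one_def, comp_left_apply]
        exact heW _⟩
    exact ⟨v, hv, hv1, hv2, hv3⟩
  have hwt : q.left w = t := hC1 w hwC
  have hw1 : w ∈ closure (q.left ⁻¹' (Set.range d.left)) := by
    rw [mem_closure_iff]
    intro O hO hwO
    have h1 := isOpen_image_fst T W (O ∩ y.left ⁻¹' W) (hO.inter (W.isOpen.preimage
      y.left.continuous)) (fun v hv ↦ hv.2)
    obtain ⟨z, ⟨v, hv, rfl⟩, hz⟩ := mem_closure_iff.mp ht _ h1 ⟨w, ⟨hwO, hwW⟩, hwt⟩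
    exact ⟨v, hv.1, hz⟩
  have hw2 : φ.left w ∈ closure (Set.range d.left) := by
    rw [hpre] at hw1
    exact (φ.left.continuous.closure_preimage_subset _) hw1
  have hw3 : φ.left w ∈ Set.range d.left := by
    refine GrpSep.mem_range_diagonal_of_mem_closure X.hom U _ ?_ ?_ hw2
    · have : (φ.left ≫ pullback.fst X.hom X.hom) w = α.left w := by
        rw [show φ.left ≫ pullback.fst X.hom X.hom = (φ ≫ fst X X).left from rfl, lift_fst]
      rw [← Scheme.Hom.comp_apply, this]
      exact hwα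
    · have : (φ.left ≫ pullback.snd X.hom X.hom) w = β.left w := by
        rw [show φ.left ≫ pullback.snd X.hom X.hom = (φ ≫ snd X X).left from rfl, lift_snd]
      rw [← Scheme.Hom.comp_apply, this]
      exact hwβ
  have hw4 : w ∈ q.left ⁻¹' (Set.range d.left) := by rw [hpre]; exact hw3
  change t ∈ Set.range d.left
  rw [← hwt]
  exact hw4

/-- If `W` is an open of `G` containing the unit over the image of `x`, and the open `V` of `X` meets
the fibre through `x`, then `x = g v` with `g ∈ W`, `v ∈ V`. -/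
theorem exists_act_eq (hΦ : Surjective (lift a.act (snd G X)).left)
    (hqs : ∀ s : S, QuasiSeparatedSpace ↥(X.hom.base ⁻¹' {s}))
    (hconn : ∀ s : S, _root_.IsPreconnected (X.hom.base ⁻¹' {s}))
    (W : G.left.Opens) (V : X.left.Opens) (x : X.left)
    (heW : (η[G] : 𝟙_ (Over S) ⟶ G).left (X.hom x) ∈ W)
    (hV : ((V : Set X.left) ∩ X.hom.base ⁻¹' {X.hom x}).Nonempty) :
    ∃ k : (G ⊗ X).left, (fst G X).left k ∈ W ∧ (snd G X).left k ∈ V ∧ a.act.left k = x := by
  let q : X ⊗ G ⟶ X := fst X G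
  let y : X ⊗ G ⟶ G := snd X G
  let α : X ⊗ G ⟶ X := lift y q ≫ a.act
  obtain ⟨C, hC, hC1, hC2, hC3⟩ := key' a hΦ hqs hconn X x
  obtain ⟨w, hwC, hwα, hwW⟩ : ∃ w ∈ C, α.left w ∈ V ∧ (y⁻¹).left w ∈ W := by
    obtain ⟨w₁, hw₁, hw₁'⟩ := hC3 (𝟙 X) V hV
    rw [Category.comp_id] at hw₁'
    obtain ⟨w, hw, hw', hw''⟩ := hC.isPreirreducible (α.left ⁻¹' V) ((y⁻¹).left ⁻¹' W)
      (V.isOpen.preimage α.left.continuous) (W.isOpen.preimage (y⁻¹).left.continuous)
      ⟨w₁, hw₁, hw₁'⟩ ⟨_, hC2, by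
        rw [Set.mem_preimage, ← comp_left_apply, GrpObj.comp_inv, lift_snd, inv_one, Hom.one_def,
          comp_left_apply]
        exact heW⟩
    exact ⟨w, hw, hw', hw''⟩
  refine ⟨(lift y⁻¹ α).left w, ?_, ?_, ?_⟩
  · rw [← comp_left_apply, lift_fst]
    exact hwW
  · rw [← comp_left_apply, lift_snd]
    exact hwα
  · rw [← comp_left_apply, ← lift_mul_act, inv_mul_cancel, lift_one_act]
    exact hC1 w hwC

set_option backward.isDefEq.respectTransparency.types false in
theorem quasiCompact (hΦ : Surjective (lift a.act (snd G X)).left)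
    (hqs : ∀ s : S, QuasiSeparatedSpace ↥(X.hom.base ⁻¹' {s}))
    (hconn : ∀ s : S, _root_.IsPreconnected (X.hom.base ⁻¹' {s}))
    (V : X.left.Opens) (hVq : QuasiCompact (V.ι ≫ X.hom))
    (hV : ∀ s : S, (X.hom.base ⁻¹' {s}).Nonempty → ((V : Set X.left) ∩ X.hom.base ⁻¹' {s}).Nonempty) :
    QuasiCompact X.hom := by
  -- local statement
  have key : ∀ s : S, ∃ A : S.Opens, s ∈ A ∧ IsAffineOpen A ∧ IsCompact (X.hom ⁻¹ᵁ A : Set X.left) := by
    intro s
    obtain ⟨_, ⟨S0', hS0, rfl⟩, hsS0, -⟩ := S.isBasis_affineOpens.exists_subset_of_mem_open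
      (Set.mem_univ s) isOpen_univ
    let S0 : S.Opens := S0'
    let e : S ⟶ G.left := (η[G] : 𝟙_ (Over S) ⟶ G).left
    have he : e ≫ G.hom = 𝟙 S := Over.w (η[G] : 𝟙_ (Over S) ⟶ G)
    have hes : G.hom (e s) = s := by
      rw [← Scheme.Hom.comp_apply, he]
      rfl
    obtain ⟨_, ⟨U', hU, rfl⟩, hxU, hUV⟩ := G.left.isBasis_affineOpens.exists_subset_of_mem_open
      (show e s ∈ (G.hom ⁻¹ᵁ S0 : Set G.left) from by
        change G.hom (e s) ∈ S0
        rw [hes]; exact hsS0) (G.hom ⁻¹ᵁ S0).isOpen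
    let U : G.left.Opens := U'
    obtain ⟨_, ⟨A', hA, rfl⟩, hsA, hAU⟩ := S.isBasis_affineOpens.exists_subset_of_mem_open
      (show s ∈ (e ⁻¹ᵁ U : Set S) from hxU) (e ⁻¹ᵁ U).isOpen
    let A : S.Opens := A'
    refine ⟨A, hsA, hA, ?_⟩
    have hUS0 : U ≤ G.hom ⁻¹ᵁ S0 := hUV
    have hAS0 : A ≤ S0 := by
      intro v hv
      have h1 : e v ∈ U := hAU hv
      have h2 : G.hom (e v) ∈ S0 := hUS0 h1
      have h3 : G.hom (e v) = v := by
        rw [← Scheme.Hom.comp_apply, he]
        rfl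
      rwa [h3] at h2
    let W : G.left.Opens := U ⊓ G.hom ⁻¹ᵁ A
    have hW : IsAffineOpen W := by
      have hU' : IsAffine U := hU
      have hS0' : IsAffine S0 := hS0
      have h1 : IsAffineOpen (S0.ι ⁻¹ᵁ A) :=
        IsAffineOpen.preimage_of_isOpenImmersion hA S0.ι (by simpa using hAS0)
      have h2 := (h1.preimage (G.hom.resLE S0 U hUS0)).image_of_isOpenImmersion U.ι
      have h3 : W = U.ι ''ᵁ ((G.hom.resLE S0 U hUS0) ⁻¹ᵁ (S0.ι ⁻¹ᵁ A)) := by
        rw [← Scheme.Hom.comp_preimage, Scheme.Hom.resLE_comp_ι, Scheme.Hom.comp_preimage,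
          Scheme.Hom.image_preimage_eq_opensRange_inf, Scheme.Opens.opensRange_ι]
      rw [h3]
      exact h2
    have hWA : W ≤ G.hom ⁻¹ᵁ A := inf_le_right
    let V₁ : X.left.Opens := V ⊓ X.hom ⁻¹ᵁ A
    have hVA : V₁ ≤ X.hom ⁻¹ᵁ A := inf_le_right
    have hV₁ : IsCompact (V₁ : Set X.left) := by
      have h1 : IsCompact ((V.ι ≫ X.hom) ⁻¹ᵁ A : Set V) := (V.ι ≫ X.hom).isCompact_preimage hA.isCompact
      have h2 := h1.image V.ι.continuous
      convert h2
      ext z
      constructor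
      · rintro ⟨hz1, hz2⟩
        exact ⟨⟨z, hz1⟩, hz2, rfl⟩
      · rintro ⟨z, hz, rfl⟩
        exact ⟨z.2, hz⟩
    have : IsAffine W := hW
    have : IsAffine A := hA
    have : CompactSpace V₁ := isCompact_iff_compactSpace.mp hV₁
    let r : W.toScheme ⟶ A.toScheme := G.hom.resLE A W hWA
    let r' : V₁.toScheme ⟶ A.toScheme := X.hom.resLE A V₁ hVA
    let j : pullback r r' ⟶ pullback G.hom X.hom :=
      pullback.map r r' G.hom X.hom W.ι V₁.ι A.ι (by simp [r]) (by simp [r'])
    have hj : Set.range j = pullback.fst G.hom X.hom ⁻¹' Set.range W.ι ∩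
        pullback.snd G.hom X.hom ⁻¹' Set.range V₁.ι := Scheme.Pullback.range_map _ _ _ _ _ _ _ _ _
    have hcomp : IsCompact (Set.range j) := isCompact_range j.continuous
    have himage : (X.hom ⁻¹ᵁ A : Set X.left) = a.act.left '' (Set.range j) := by
      apply subset_antisymm
      · intro x hx
        obtain ⟨k, hk1, hk2, hk3⟩ := exists_act_eq a hΦ hqs hconn U V x (hAU hx) (hV _ ⟨x, rfl⟩)
        have hk4 : X.hom ((snd G X).left k) = X.hom x := by
          rw [← hk3, ← Scheme.Hom.comp_apply, ← Scheme.Hom.comp_apply, Over.w (snd G X), Over.w a.act]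
        have hk5 : G.hom ((fst G X).left k) = X.hom x := by
          rw [← hk3, ← Scheme.Hom.comp_apply, ← Scheme.Hom.comp_apply, Over.w (fst G X), Over.w a.act]
        refine ⟨k, ?_, hk3⟩
        rw [hj]
        refine ⟨?_, ?_⟩
        · rw [Set.mem_preimage, Scheme.Opens.range_ι]
          refine ⟨hk1, ?_⟩
          change G.hom ((fst G X).left k) ∈ A
          rw [hk5]
          exact hx
        · rw [Set.mem_preimage, Scheme.Opens.range_ι]
          refine ⟨hk2, ?_⟩
          change X.hom ((snd G X).left k) ∈ A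
          rw [hk4]
          exact hx
      · rintro _ ⟨k, hk, rfl⟩
        rw [hj] at hk
        have hk1 : (snd G X).left k ∈ V₁ := by simpa using hk.2
        change X.hom (a.act.left k) ∈ A
        rw [← Scheme.Hom.comp_apply, Over.w a.act, ← Over.w (snd G X), Scheme.Hom.comp_apply]
        exact hk1.2
    rw [himage]
    exact hcomp.image a.act.left.continuous
  choose V hsV hV hc using key
  rw [HasAffineProperty.iff_of_iSup_eq_top (P := @QuasiCompact) fun i ↦ ⟨V i, hV i⟩]
  · intro i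
    exact isCompact_iff_compactSpace.mp (hc i)
  · exact top_le_iff.mp (fun x _ ↦ by simpa using ⟨x, hsV x⟩)

end K208.HomogSep
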