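import Groth.Agent.Fdesc.GeomAlgClosed
import Groth.Agent.Fdesc.GeomConn
import Groth.Agent.Sga3C.IrrComp
import Groth.Agent.S2544

/-!
# Maximal points of the fibres of a field extension and dense opens
-/

set_option autoImplicit false

universe u

open CategoryTheory Limits AlgebraicGeometry

namespace K208.MaxPtFib

/-- Maximal points of a fibre in terms of specializations. -/
theorem closure_mem_iff {X Y : Scheme.{u}} (f : X ⟶ Y) (y : Y) (z : ↥(f.base ⁻¹' {y})) :
    closure {z} ∈ irreducibleComponents ↥(f.base ⁻¹' {y}) ↔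
      ∀ z' : X, f z' = y → z' ⤳ z.1 → z' = z.1 := by
  have hq : QuasiSober ↥(f.base ⁻¹' {y}) := (f.fiberHomeo y).symm.isOpenEmbedding.quasiSober
  constructor
  · intro h z' hz' hzz'
    have h1 : (⟨z', hz'⟩ : ↥(f.base ⁻¹' {y})) ⤳ z := by
      rw [Topology.IsInducing.subtypeVal.specializes_iff.symm]
      exact hzz'
    have h2 : closure {z} ⊆ closure {(⟨z', hz'⟩ : ↥(f.base ⁻¹' {y}))} :=
      closure_minimal (Set.singleton_subset_iff.mpr h1.mem_closure) isClosed_closure
    have h3 := h.2 (isIrreducible_singleton.closure) h2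
    have h4 : z ⤳ (⟨z', hz'⟩ : ↥(f.base ⁻¹' {y})) :=
      specializes_iff_mem_closure.mpr (h3 (subset_closure rfl))
    exact congrArg Subtype.val (h1.antisymm h4).eq
  · intro h
    obtain ⟨ξ, hξ⟩ := QuasiSober.sober (S := irreducibleComponent z)
      isIrreducible_irreducibleComponent isClosed_irreducibleComponent
    have h1 : ξ ⤳ z := hξ.specializes mem_irreducibleComponent
    have h2 : ξ = z := Subtype.ext (h ξ.1 ξ.2 (h1.map continuous_subtype_val))
    rw [← h2, hξ.def]
    exact irreducibleComponent_mem_irreducibleComponents z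

/-- In a noetherian scheme, a dense open contains all generic points. -/
theorem mem_of_dense {X : Scheme.{u}} [IsNoetherian X] (W : X.Opens) (hW : Dense (W : Set X))
    (z : X) (hz : ∀ z', z' ⤳ z → z' = z) : z ∈ W := by
  obtain ⟨ξ, hξ⟩ := QuasiSober.sober (S := irreducibleComponent z)
    isIrreducible_irreducibleComponent isClosed_irreducibleComponent
  obtain rfl := hz ξ (hξ.specializes mem_irreducibleComponent)
  obtain ⟨o, ho, hne, hoz⟩ := TopologicalSpace.NoetherianSpace.exists_isOpen_nonempty_subset_irreducibleComponent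
    (irreducibleComponent ξ) (irreducibleComponent_mem_irreducibleComponents ξ)
  obtain ⟨w, hw1, hw2⟩ := hW.inter_open_nonempty o ho hne
  exact (hξ.specializes (hoz hw1)).mem_open W.isOpen hw2

end K208.MaxPtFib
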