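import Groth.Agent.Sga3C.HomogConn
import Groth.Agent.S3023
import Groth.Agent.S0348
import Groth.Agent.S0355

/-!
# Orbit maps of rational points in homogeneous spaces
-/

set_option autoImplicit false

universe u

open CategoryTheory Limits MonoidalCategory CartesianMonoidalCategory MonObj GrpObj AlgebraicGeometry

namespace K208.OrbComp

open Groth.Agent.Sga3C Transl IrrComp GenPts HomogIrr ActBase

/-- Two points with the same image come from a common point of some scheme. -/
theorem exists_common {S : Scheme.{u}} {P P' Q : Over S} (f : P ⟶ Q) (g : P' ⟶ Q) (p : P.left)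
    (p' : P'.left) (h : f.left p = g.left p') :
    ∃ (W : Over S) (w₁ : W ⟶ P) (w₂ : W ⟶ P') (z : W.left), w₁ ≫ f = w₂ ≫ g ∧
      w₁.left z = p ∧ w₂.left z = p' := by
  obtain ⟨z, hz1, hz2⟩ := Scheme.Pullback.exists_preimage_pullback (f := f.left) (g := g.left) p p' h
  refine ⟨Over.mk (pullback.fst f.left g.left ≫ P.hom), Over.homMk (pullback.fst f.left g.left),
    Over.homMk (pullback.snd f.left g.left) ?_, z, ?_, hz1, hz2⟩
  · simp only [Over.mk_left, Over.mk_hom]
    rw [← Over.w g, ← pullback.condition_assoc, Over.w f]
  · ext1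
    exact pullback.condition

section AlgClosed

variable {K : Type u} [Field K] [IsAlgClosed K]
  {G X : Over (Spec (CommRingCat.of K))} [GrpObj G] (a : AlgGrp.Action G X)

/-- If `g` lies in the unit component `N` then `g x` and `x` lie on a common irreducible component. -/
theorem act_mem_comp {N : Set G.left} (hN : N ∈ irreducibleComponents G.left)
    (hN1 : ∀ s, η[G].left s ∈ N) (q : (G ⊗ X).left) (hq1 : (fst G X).left q ∈ N) :
    ∃ Y ∈ irreducibleComponents X.left, a.act.left q ∈ Y ∧ (snd G X).left q ∈ Y := by
  let T := ptObj X ((snd G X).left q)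
  let y : T ⟶ X := ptHom X _
  obtain ⟨pt⟩ : Nonempty T.left := inferInstance
  let h : T ⊗ G ⟶ G ⊗ X := lift (snd T G) (fst T G ≫ y)
  have hNT := preimage_snd_mem T G hN
  have hirr := hNT.1.image _ (h ≫ a.act).left.continuous.continuousOn
  obtain ⟨Y, hY, hY'⟩ := exists_mem_irreducibleComponents_subset_of_isIrreducible _ hirr
  refine ⟨Y, hY, hY' ?_, hY' ?_⟩
  · -- `q` is in the range of `h`
    obtain ⟨z, hz1, hz2⟩ := Scheme.Pullback.exists_preimage_pullback (f := y.left)
      (g := (snd G X).left) pt q (ptHom_apply _ _ _)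
    let W : Over (Spec (CommRingCat.of K)) := Over.mk (pullback.fst y.left (snd G X).left ≫ T.hom)
    let w1 : W ⟶ T := Over.homMk (pullback.fst y.left (snd G X).left)
    let w2 : W ⟶ G ⊗ X := Over.homMk (pullback.snd y.left (snd G X).left) (by
      rw [← Over.w (snd G X), ← pullback.condition_assoc, Over.w y]
      rfl)
    have hw : w1 ≫ y = w2 ≫ snd G X := by
      apply Over.OverMorphism.ext
      rw [Over.comp_left, Over.comp_left]
      exact pullback.condition (f := y.left) (g := (snd G X).left)
    have hw2 : lift w1 (w2 ≫ fst G X) ≫ h = w2 := by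
      ext1
      · simp [h]
      · simp [h, hw]
    refine ⟨(lift w1 (w2 ≫ fst G X)).left z, ?_, ?_⟩
    · rw [Set.mem_preimage, ← comp_left_apply, lift_snd, comp_left_apply]
      change (fst G X).left (pullback.snd y.left (snd G X).left z) ∈ N
      rw [hz2]
      exact hq1
    · rw [← comp_left_apply, reassoc_of% hw2, comp_left_apply]
      change a.act.left (pullback.snd y.left (snd G X).left z) = _
      rw [hz2]
  · refine ⟨(lift (𝟙 T) (1 : T ⟶ G)).left pt, ?_, ?_⟩
    · rw [Set.mem_preimage, snd_lift_apply, Hom.one_def, comp_left_apply]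
      exact hN1 _
    · rw [← comp_left_apply]
      have : lift (𝟙 T) (1 : T ⟶ G) ≫ h ≫ a.act = y := by
        have : lift (𝟙 T) (1 : T ⟶ G) ≫ h = lift 1 y := by
          ext1 <;> simp [h]
        rw [reassoc_of% this, lift_one_act]
      rw [this]
      exact ptHom_apply _ _ _

/-- The unit component is stable under products (of points with values in a common scheme). -/
theorem mul_mem {N : Set G.left} (hN : N ∈ irreducibleComponents G.left)
    (hN1 : ∀ s, η[G].left s ∈ N) {T : Over (Spec (CommRingCat.of K))} (g h : T ⟶ G) (t : T.left)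
    (hg : g.left t ∈ N) (hh : h.left t ∈ N) : (g * h).left t ∈ N := by
  have hG := uniqueComp (regular G) (surjective_regular G)
  obtain ⟨Y, hY, h1, h2⟩ := act_mem_comp (regular G) hN hN1 ((lift g h).left t) (by
    rw [← comp_left_apply, lift_fst]; exact hg)
  rw [← comp_left_apply, lift_snd] at h2
  obtain rfl := hG _ _ _ hY hN h2 hh
  rw [← comp_left_apply] at h1
  exact h1

theorem inv_mem {N : Set G.left} (hN : N ∈ irreducibleComponents G.left)
    (hN1 : ∀ s, η[G].left s ∈ N) {T : Over (Spec (CommRingCat.of K))} (g : T ⟶ G) (t : T.left)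
    (hg : g.left t ∈ N) : (g⁻¹).left t ∈ N := by
  have hG := uniqueComp (regular G) (surjective_regular G)
  rw [Hom.inv_def, comp_left_apply]
  exact inv_mem_of_mem hG hN hN1 hg

/-- Over an algebraically closed field, the orbit of a rational point under the unit component is
an irreducible component. -/
theorem orbitMap_image_eq_of_isAlgClosed (hΦ : Surjective (lift a.act (snd G X)).left)
    {N : Set G.left} (hN : N ∈ irreducibleComponents G.left) (hN1 : ∀ s, η[G].left s ∈ N)
    (x : 𝟙_ (Over (Spec (CommRingCat.of K))) ⟶ X)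
    (pt : ↥(𝟙_ (Over (Spec (CommRingCat.of K)))).left) {Y : Set X.left}
    (hY : Y ∈ irreducibleComponents X.left) (hxY : x.left pt ∈ Y) :
    (a.orbitMap x).left '' N = Y := by
  have hX := uniqueComp a hΦ
  have hsub : Subsingleton ↥(𝟙_ (Over (Spec (CommRingCat.of K)))).left :=
    inferInstanceAs (Subsingleton (PrimeSpectrum K))
  have horb : lift (𝟙 G) (toUnit G ≫ x) ≫ a.act = a.orbitMap x := rfl
  apply Set.Subset.antisymm
  · rintro _ ⟨g, hg, rfl⟩
    obtain ⟨Y', hY', h1, h2⟩ := act_mem_comp a hN hN1 ((lift (𝟙 G) (toUnit G ≫ x)).left g) (by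
      rw [← comp_left_apply, lift_fst]; exact hg)
    rw [← comp_left_apply, horb] at h1
    rw [← comp_left_apply, lift_snd, comp_left_apply, Subsingleton.elim ((toUnit G).left g) pt] at h2
    obtain rfl := hX _ _ _ hY hY' hxY h2
    exact h1
  · intro y hy
    obtain ⟨z, hz⟩ := exists_isGenericPoint hY
    obtain ⟨q, hq1, hq2, hq3⟩ := exists_unit_generic a hΦ hN hN1 hY hy hz
    obtain ⟨q', hq1', hq2', hq3'⟩ := exists_unit_generic a hΦ hN hN1 hY hxY hz
    -- the point `g₂` of `G` with `g₂ x = z`
    obtain ⟨g₂, hg₂, hg₂'⟩ : ∃ g₂ : G.left, g₂ ∈ N ∧ (a.orbitMap x).left g₂ = z := by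
      obtain ⟨W, w₁, w₂, t, hw, hw₁, hw₂⟩ := exists_common (snd G X) x q' pt hq2'
      have h1 : (w₁ ≫ fst G X) ≫ lift (𝟙 G) (toUnit G ≫ x) = w₁ := by
        ext1
        · simp
        · simp only [Category.assoc, lift_snd, comp_toUnit_assoc]
          rw [hw]
          congr 1
          exact toUnit_unique _ _
      refine ⟨(w₁ ≫ fst G X).left t, ?_, ?_⟩
      · rw [comp_left_apply, hw₁]
        exact hq1'
      · rw [← horb, ← comp_left_apply, ← Category.assoc, h1, comp_left_apply, hw₁, hq3']
    obtain ⟨W, w₁, w₂, t, hw, hw₁, hw₂⟩ := exists_common a.act (a.orbitMap x) q g₂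
      (by rw [hq3, hg₂'])
    refine ⟨((w₁ ≫ fst G X)⁻¹ * w₂).left t, ?_, ?_⟩
    · apply mul_mem hN hN1
      · apply inv_mem hN hN1
        rw [comp_left_apply, hw₁]
        exact hq1
      · rw [hw₂]
        exact hg₂
    · have h1 : ((w₁ ≫ fst G X)⁻¹ * w₂) ≫ a.orbitMap x = w₁ ≫ snd G X := by
        have h2 : ∀ w : W ⟶ G, w ≫ a.orbitMap x = lift w (toUnit W ≫ x) ≫ a.act := by
          intro w
          rw [← horb, ← Category.assoc, comp_lift, Category.comp_id, comp_toUnit_assoc]
        have h3 : w₁ ≫ a.act = lift (w₁ ≫ fst G X) (w₁ ≫ snd G X) ≫ a.act := by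
          congr 1
          ext1 <;> simp
        rw [h2, lift_mul_act, ← h2 w₂, ← hw, h3, ← lift_mul_act, inv_mul_cancel, lift_one_act]
      rw [← comp_left_apply, h1, comp_left_apply, hw₁, hq2]

end AlgClosed

/-- Images of irreducible components under a closed generalizing map. -/
theorem image_irreducibleComponent {X' X : Type*} [TopologicalSpace X'] [TopologicalSpace X]
    [QuasiSober X] (f : X' → X) (hf : Continuous f) (hc : IsClosedMap f) (hg : GeneralizingMap f)
    (h' : UniqueComp X') (h : UniqueComp X) (x' : X') {Y : Set X} (hY : Y ∈ irreducibleComponents X)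
    (hxY : f x' ∈ Y) : f '' irreducibleComponent x' = Y := by
  apply Set.Subset.antisymm
  · have h1 : IsIrreducible (f '' irreducibleComponent x') :=
      isIrreducible_irreducibleComponent.image _ hf.continuousOn
    obtain ⟨Z, hZ, hZ'⟩ := exists_mem_irreducibleComponents_subset_of_isIrreducible _ h1
    have h2 : f x' ∈ Z := hZ' ⟨x', mem_irreducibleComponent, rfl⟩
    rw [← h _ _ _ hZ hY h2 hxY]
    exact hZ'
  · obtain ⟨ξ, hξ⟩ := exists_isGenericPoint hY
    obtain ⟨ξ', hξ', rfl⟩ := hg (hξ.specializes hxY)
    have h1 : ξ' ∈ irreducibleComponent x' := by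
      have h2 : x' ∈ irreducibleComponent ξ' :=
        hξ'.mem_closed isClosed_irreducibleComponent mem_irreducibleComponent
      rw [h' x' _ _ (irreducibleComponent_mem_irreducibleComponents x')
        (irreducibleComponent_mem_irreducibleComponents ξ') mem_irreducibleComponent h2]
      exact mem_irreducibleComponent
    rw [← hξ.def]
    exact closure_minimal (Set.singleton_subset_iff.mpr ⟨ξ', h1, rfl⟩)
      (hc _ isClosed_irreducibleComponent)

section Base

variable {S S' : Scheme.{u}} (t : S' ⟶ S)

theorem map_left_fst {Z Y : Over S} (f : Z ⟶ Y) (z : ((Over.pullback t).obj Z).left) :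
    pullback.fst Y.hom t (((Over.pullback t).map f).left z) = f.left (pullback.fst Z.hom t z) := by
  rw [← Scheme.Hom.comp_apply, ← Scheme.Hom.comp_apply, (isPullback_map_left t f).w]

variable {G X : Over S} [GrpObj G] (a : AlgGrp.Action G X)

/-- Base change of a section. -/
noncomputable def basePt (x : 𝟙_ (Over S) ⟶ X) : 𝟙_ (Over S') ⟶ (Over.pullback t).obj X :=
  Functor.LaxMonoidal.ε (Over.pullback t) ≫ (Over.pullback t).map x

theorem orbitMap_base (x : 𝟙_ (Over S) ⟶ X) :
    letI := Functor.grpObjObj (F := Over.pullback t) (G := G)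
    (baseAct t a).orbitMap (basePt t x) = (Over.pullback t).map (a.orbitMap x) := by
  let := Functor.grpObjObj (F := Over.pullback t) (G := G)
  have h1 : lift (𝟙 ((Over.pullback t).obj G)) (toUnit _ ≫ basePt t x) ≫
      Functor.LaxMonoidal.μ (Over.pullback t) G X =
      (Over.pullback t).map (lift (𝟙 G) (toUnit G ≫ x)) := by
    rw [← cancel_mono (Functor.OplaxMonoidal.δ (Over.pullback t) G X), Category.assoc,
      Functor.Monoidal.μ_δ, Category.comp_id, Functor.OplaxMonoidal.lift_δ]
    congr 1
    · simp
    · rw [Functor.map_comp, basePt, ← Category.assoc]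
      congr 1
      rw [← cancel_mono (Functor.OplaxMonoidal.η (Over.pullback t))]
      exact toUnit_unique _ _
  change lift (𝟙 _) (toUnit _ ≫ basePt t x) ≫ Functor.LaxMonoidal.μ (Over.pullback t) G X ≫
    (Over.pullback t).map a.act = _
  rw [← Category.assoc, h1, ← Functor.map_comp]
  rfl

end Base

section Field

variable {k : Type u} [Field k] {G X : Over (Spec (CommRingCat.of k))} [GrpObj G]
  (a : AlgGrp.Action G X)

/-- The orbit of a rational point under the unit component is an irreducible component. -/
theorem orbitMap_image_eq (hΦ : Surjective (lift a.act (snd G X)).left)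
    (x : 𝟙_ (Over (Spec (CommRingCat.of k))) ⟶ X) (pt : ↥(𝟙_ (Over (Spec (CommRingCat.of k)))).left)
    {C0 : Set G.left} (hC0 : C0 ∈ irreducibleComponents G.left) (he : η[G].left pt ∈ C0)
    {Y : Set X.left} (hY : Y ∈ irreducibleComponents X.left) (hxY : x.left pt ∈ Y) :
    (a.orbitMap x).left '' C0 = Y := by
  let K := AlgebraicClosure k
  let t : Spec (CommRingCat.of K) ⟶ Spec (CommRingCat.of k) :=
    Spec.map (CommRingCat.ofHom (algebraMap k K))
  let := Functor.grpObjObj (F := Over.pullback t) (G := G)
  let G' := (Over.pullback t).obj G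
  let X' := (Over.pullback t).obj X
  let a' : AlgGrp.Action G' X' := baseAct t a
  have hΦ' : Surjective (lift a'.act (snd G' X')).left := surjective_baseAct t a hΦ
  have : Algebra.IsAlgebraic k K := inferInstance
  have hint : IsIntegralHom t := by
    rw [IsIntegralHom.SpecMap_iff]
    exact algebraMap_isIntegral_iff.mpr inferInstance
  let π : X'.left ⟶ X.left := pullback.fst X.hom t
  let ρ : G'.left ⟶ G.left := pullback.fst G.hom t
  obtain ⟨pt'⟩ : Nonempty (𝟙_ (Over (Spec (CommRingCat.of K)))).left :=
    inferInstanceAs (Nonempty (Spec (CommRingCat.of K)))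
  have hsub : Subsingleton ↥(𝟙_ (Over (Spec (CommRingCat.of k)))).left :=
    inferInstanceAs (Subsingleton (PrimeSpectrum k))
  have hsub' : Subsingleton ↥(𝟙_ (Over (Spec (CommRingCat.of K)))).left :=
    inferInstanceAs (Subsingleton (PrimeSpectrum K))
  have hx' : π ((basePt t x).left pt') = x.left pt := by
    rw [basePt, comp_left_apply]
    change pullback.fst X.hom t _ = _
    rw [map_left_fst, Subsingleton.elim (pullback.fst _ t _) pt]
  have he' : ρ (η[G'].left pt') = η[G].left pt := by
    change ρ ((Functor.LaxMonoidal.ε (Over.pullback t) ≫ (Over.pullback t).map η[G]).left pt') = _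
    rw [comp_left_apply]
    change pullback.fst G.hom t _ = _
    rw [map_left_fst, Subsingleton.elim (pullback.fst _ t _) pt]
  have h1 : ρ '' irreducibleComponent (η[G'].left pt') = C0 := by
    refine image_irreducibleComponent ρ ρ.continuous (pullback.fst G.hom t).isClosedMap
      (Flat.generalizingMap (pullback.fst G.hom t))
      (uniqueComp (regular G') (surjective_regular G')) (HomogConn.main (regular G) (surjective_regular G)).1 _ hC0 ?_
    rw [he']
    exact he
  have h2 : π '' irreducibleComponent ((basePt t x).left pt') = Y := by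
    refine image_irreducibleComponent π π.continuous (pullback.fst X.hom t).isClosedMap
      (Flat.generalizingMap (pullback.fst X.hom t))
      (uniqueComp a' hΦ') (HomogConn.main a hΦ).1 _ hY ?_
    rw [hx']
    exact hxY
  have h3 := orbitMap_image_eq_of_isAlgClosed a' hΦ'
    (irreducibleComponent_mem_irreducibleComponents (η[G'].left pt')) (by
      intro s
      rw [Subsingleton.elim s pt']
      exact mem_irreducibleComponent) (basePt t x) pt'
    (irreducibleComponent_mem_irreducibleComponents ((basePt t x).left pt'))
    mem_irreducibleComponent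
  rw [← h1, ← h2, ← h3, orbitMap_base, ← Set.image_comp, ← Set.image_comp]
  congr 1
  ext z
  exact (map_left_fst t (a.orbitMap x) z).symm

/-- The connected component of a rational point of a quasi-separated homogeneous space. -/
theorem orbitMap_image_eq_connectedComponent [QuasiSeparatedSpace X.left]
    (hΦ : Surjective (lift a.act (snd G X)).left)
    (x : 𝟙_ (Over (Spec (CommRingCat.of k))) ⟶ X) (pt : ↥(𝟙_ (Over (Spec (CommRingCat.of k)))).left)
    {C0 : Set G.left} (hC0 : C0 ∈ irreducibleComponents G.left) (he : η[G].left pt ∈ C0) :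
    (a.orbitMap x).left '' C0 = connectedComponent (x.left pt) := by
  refine orbitMap_image_eq a hΦ x pt hC0 he ?_ mem_connectedComponent
  have h1 : IsIrreducible (connectedComponent (x.left pt)) :=
    ⟨⟨_, mem_connectedComponent⟩, HomogConn.isPreirreducible_connectedComponent a hΦ _⟩
  obtain ⟨Y, hY, hY'⟩ := exists_mem_irreducibleComponents_subset_of_isIrreducible _ h1
  have h2 : Y ⊆ connectedComponent (x.left pt) :=
    hY.1.2.isPreconnected.subset_connectedComponent (hY' mem_connectedComponent)
  rwa [Set.Subset.antisymm hY' h2]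

/-- The connected component of the unit is an irreducible component. -/
theorem connectedComponent_unit_mem (G : Over (Spec (CommRingCat.of k))) [GrpObj G]
    (pt : ↥(𝟙_ (Over (Spec (CommRingCat.of k)))).left) :
    connectedComponent (η[G].left pt) ∈ irreducibleComponents G.left := by
  have hsub : Subsingleton ↥(𝟙_ (Over (Spec (CommRingCat.of k)))).left :=
    inferInstanceAs (Subsingleton (PrimeSpectrum k))
  have h1 : IsIrreducible (connectedComponent (η[G].left pt)) := by
    rw [Subsingleton.elim pt (IsLocalRing.closedPoint k)]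
    exact (Groth.Agent.S0355.result k G).1
  obtain ⟨Y, hY, hY'⟩ := exists_mem_irreducibleComponents_subset_of_isIrreducible _ h1
  have h2 : Y ⊆ connectedComponent (η[G].left pt) :=
    hY.1.2.isPreconnected.subset_connectedComponent (hY' mem_connectedComponent)
  rwa [Set.Subset.antisymm hY' h2]

/-- The preimage, under a field extension, of the unit component is irreducible. -/
theorem isIrreducible_preimage_unitComponent (G : Over (Spec (CommRingCat.of k))) [GrpObj G]
    (pt : ↥(𝟙_ (Over (Spec (CommRingCat.of k)))).left) (K : Type u) [Field K] [Algebra k K] :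
    IsIrreducible ((pullback.fst G.hom (Spec.map (CommRingCat.ofHom (algebraMap k K)))).base ⁻¹'
      connectedComponent (η[G].left pt)) := by
  let t : Spec (CommRingCat.of K) ⟶ Spec (CommRingCat.of k) :=
    Spec.map (CommRingCat.ofHom (algebraMap k K))
  obtain ⟨G0, _, i, hi, hi', -, hrange⟩ := Groth.Agent.S3023.result k G
  -- `G0` is irreducible after base change
  have hiη : i.left (η[G0].left pt) = η[G].left pt := by
    rw [← comp_left_apply, IsMonHom.one_hom]
  have hconn : ConnectedSpace G0.left := by
    rw [connectedSpace_iff_univ]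
    refine ⟨⟨η[G0].left pt, trivial⟩, ?_⟩
    rw [← i.left.isEmbedding.isInducing.isPreconnected_image, Set.image_univ]
    exact (hrange pt).symm ▸ isPreconnected_connectedComponent
  have hgeom : GeometricallyConnected G0.hom :=
    Groth.Agent.S3023.geometricallyConnected_of_point G0.hom η[G0].left (Over.w η[G0])
  let := Functor.grpObjObj (F := Over.pullback t) (G := G0)
  have hconn' : ConnectedSpace ((Over.pullback t).obj G0).left :=
    inferInstanceAs (ConnectedSpace ↥(pullback G0.hom t))
  have hirr : IrreducibleSpace ((Over.pullback t).obj G0).left :=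
    Groth.Agent.S0348.result K ((Over.pullback t).obj G0)
  have h1 : (pullback.fst G.hom t).base ⁻¹' connectedComponent (η[G].left pt) =
      Set.range ((Over.pullback t).map i).left := by
    have h2 := hrange pt
    ext z
    constructor
    · intro hz
      rw [Set.mem_preimage] at hz
      obtain ⟨w, hw⟩ : pullback.fst G.hom t z ∈ Set.range i.left := by
        rw [show Set.range i.left = connectedComponent (η[G].left pt) from h2]
        exact hz
      obtain ⟨p, hp, -⟩ := isPullback_surj (isPullback_map_left t i) z w hw.symm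
      exact ⟨p, hp⟩
    · rintro ⟨w, rfl⟩
      change pullback.fst G.hom t _ ∈ connectedComponent (η[G].left pt)
      rw [map_left_fst, ← show Set.range i.left = connectedComponent (η[G].left pt) from h2]
      exact ⟨_, rfl⟩
  change IsIrreducible ((pullback.fst G.hom t).base ⁻¹' connectedComponent (η[G].left pt))
  rw [h1, ← Set.image_univ]
  exact (IrreducibleSpace.isIrreducible_univ _).image _
    ((Over.pullback t).map i).left.continuous.continuousOn

theorem isIrreducible_preimage_connectedComponent [QuasiSeparatedSpace X.left]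
    (hΦ : Surjective (lift a.act (snd G X)).left)
    (x : 𝟙_ (Over (Spec (CommRingCat.of k))) ⟶ X) (pt : ↥(𝟙_ (Over (Spec (CommRingCat.of k)))).left)
    (K : Type u) [Field K] [Algebra k K] :
    IsIrreducible ((pullback.fst X.hom (Spec.map (CommRingCat.ofHom (algebraMap k K)))).base ⁻¹'
      connectedComponent (x.left pt)) := by
  let t : Spec (CommRingCat.of K) ⟶ Spec (CommRingCat.of k) :=
    Spec.map (CommRingCat.ofHom (algebraMap k K))
  rw [← orbitMap_image_eq_connectedComponent a hΦ x pt (connectedComponent_unit_mem G pt)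
    mem_connectedComponent]
  have h1 : (pullback.fst X.hom t).base ⁻¹' ((a.orbitMap x).left ''
      connectedComponent (η[G].left pt)) = ((Over.pullback t).map (a.orbitMap x)).left ''
      ((pullback.fst G.hom t).base ⁻¹' connectedComponent (η[G].left pt)) := by
    ext z
    constructor
    · rintro ⟨w, hw1, hw2⟩
      obtain ⟨p, hp1, hp2⟩ := isPullback_surj (isPullback_map_left t (a.orbitMap x)) z w hw2.symm
      refine ⟨p, ?_, hp1⟩
      change pullback.fst G.hom t p ∈ connectedComponent (η[G].left pt)
      rw [hp2]
      exact hw1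
    · rintro ⟨w, hw1, rfl⟩
      refine ⟨pullback.fst G.hom t w, hw1, ?_⟩
      exact (map_left_fst t (a.orbitMap x) w).symm
  change IsIrreducible ((pullback.fst X.hom t).base ⁻¹' _)
  rw [h1]
  exact (isIrreducible_preimage_unitComponent G pt K).image _
    ((Over.pullback t).map (a.orbitMap x)).left.continuous.continuousOn

end Field

end K208.OrbComp
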