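import Groth.Agent.SGA3.K208.OrbComp
import Groth.Agent.Sga3C.GrpSep

/-!
# Homogeneous spaces with connected fibres: moving points into an open set by the unit component
-/

set_option autoImplicit false

universe u

open CategoryTheory Limits MonoidalCategory CartesianMonoidalCategory MonObj GrpObj AlgebraicGeometry

namespace K208.HomogKey

open Groth.Agent.Sga3C Transl IrrComp GenPts HomogIrr ActBase K208.OrbComp

variable {S : Scheme.{u}} {G X : Over S} [GrpObj G] (a : AlgGrp.Action G X)

/-- The fibres of a homogeneous space with connected quasi-separated fibres are irreducible. -/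
theorem preirreducibleSpace_fiber (hΦ : Surjective (lift a.act (snd G X)).left) (s : S)
    (hqs : QuasiSeparatedSpace ↥(X.hom.base ⁻¹' {s}))
    (hconn : _root_.IsPreconnected (X.hom.base ⁻¹' {s})) :
    PreirreducibleSpace ↥(X.hom.fiber s) := by
  let t : Spec (CommRingCat.of (S.residueField s)) ⟶ S := S.fromSpecResidueField s
  let := Functor.grpObjObj (F := Over.pullback t) (G := G)
  let X' := (Over.pullback t).obj X
  let h : X'.left ≃ₜ ↥(X.hom.base ⁻¹' {s}) := X.hom.fiberHomeo s
  have hqs' : QuasiSeparatedSpace X'.left := by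
    rw [quasiSeparatedSpace_congr h] 
    exact hqs
  rcases isEmpty_or_nonempty X'.left with hE | ⟨⟨x⟩⟩
  · have : IsEmpty ↥(X.hom.fiber s) := hE
    refine ⟨?_⟩
    rw [Set.eq_empty_of_isEmpty Set.univ]
    exact isPreirreducible_empty
  · have h1 := HomogConn.isPreirreducible_connectedComponent (baseAct t a)
      (surjective_baseAct t a hΦ) x
    have : PreconnectedSpace ↥(X.hom.base ⁻¹' {s}) := Subtype.preconnectedSpace hconn
    have : PreconnectedSpace X'.left := by
      refine ⟨?_⟩
      rw [← Set.range_eq_univ.mpr h.symm.surjective]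
      exact isPreconnected_range h.symm.continuous
    rw [PreconnectedSpace.connectedComponent_eq_univ] at h1
    exact ⟨h1⟩

/-- Lifting generizations inside a fibre to a base change to a field. -/
theorem exists_generization {K : Type u} [Field K] {s : S}
    (ψ : Spec (CommRingCat.of K) ⟶ Spec (S.residueField s)) (τ : Spec (CommRingCat.of K) ⟶ S)
    (hτ : ψ ≫ S.fromSpecResidueField s = τ) (p : ↥(pullback X.hom τ)) (ξ : X.left)
    (hξ : X.hom ξ = s) (hξp : ξ ⤳ pullback.fst X.hom τ p) :
    ∃ ξ' : ↥(pullback X.hom τ), ξ' ⤳ p ∧ pullback.fst X.hom τ ξ' = ξ := by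
  subst hτ
  let jj := S.fromSpecResidueField s
  let θ : pullback X.hom (ψ ≫ jj) ⟶ pullback X.hom jj :=
    pullback.lift (pullback.fst _ _) (pullback.snd _ _ ≫ ψ) (by
      rw [pullback.condition, Category.assoc])
  have hθ1 : θ ≫ pullback.fst X.hom jj = pullback.fst X.hom (ψ ≫ jj) := pullback.lift_fst _ _ _
  have hθ2 : θ ≫ pullback.snd X.hom jj = pullback.snd X.hom (ψ ≫ jj) ≫ ψ := pullback.lift_snd _ _ _
  have hθ : IsPullback θ (pullback.snd X.hom (ψ ≫ jj)) (pullback.snd X.hom jj) ψ := by
    refine IsPullback.of_right (h₁₂ := pullback.fst X.hom jj) (h₂₂ := jj) (v₁₃ := X.hom) ?_ hθ2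
      (IsPullback.of_hasPullback _ _)
    rw [hθ1]
    exact IsPullback.of_hasPullback _ _
  have hflat : Flat θ := by
    have : Flat ψ := inferInstance
    exact MorphismProperty.of_isPullback (P := @Flat) hθ.flip this
  obtain ⟨ξ₁, hξ₁⟩ : ∃ ξ₁ : ↥(pullback X.hom jj), pullback.fst X.hom jj ξ₁ = ξ := by
    have := X.hom.range_fiberι s
    have h2 : ξ ∈ Set.range (X.hom.fiberι s) := by
      rw [this]
      exact hξ
    exact h2
  have h1 : ξ₁ ⤳ θ p := by
    have : Topology.IsInducing (X.hom.fiberι s) := (X.hom.fiberι s).isEmbedding.isInducing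
    refine this.specializes_iff.mp ?_
    change pullback.fst X.hom jj ξ₁ ⤳ pullback.fst X.hom jj (θ p)
    rw [hξ₁, ← Scheme.Hom.comp_apply, hθ1]
    exact hξp
  obtain ⟨ξ', hξ', h2⟩ := Flat.generalizingMap θ h1
  refine ⟨ξ', hξ', ?_⟩
  rw [← hθ1, Scheme.Hom.comp_apply, h2, hξ₁]

/-- The action of the base change to a field on a rational point, seen over the base. -/
theorem orbitMap_fst {K : Type u} [Field K] (τ : Spec (CommRingCat.of K) ⟶ S)
    (x : Spec (CommRingCat.of K) ⟶ X.left) (hx : x ≫ X.hom = τ) :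
    letI := Functor.grpObjObj (F := Over.pullback τ) (G := G)
    letI xK : 𝟙_ (Over (Spec (CommRingCat.of K))) ⟶ (Over.pullback τ).obj X :=
      Over.homMk (pullback.lift x (𝟙 _) (by rw [hx, Category.id_comp])) (pullback.lift_snd _ _ _)
    letI Z : Over S := Over.mk (pullback.snd G.hom τ ≫ τ)
    letI zG : Z ⟶ G := Over.homMk (pullback.fst G.hom τ) pullback.condition
    letI zx : Z ⟶ X := Over.homMk (pullback.snd G.hom τ ≫ x) (by
      rw [Category.assoc, hx]; rfl)
    ((baseAct τ a).orbitMap xK).left ≫ pullback.fst X.hom τ = (lift zG zx ≫ a.act).left := by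
  let := Functor.grpObjObj (F := Over.pullback τ) (G := G)
  let F := Over.pullback τ
  let xK : 𝟙_ (Over (Spec (CommRingCat.of K))) ⟶ (Over.pullback τ).obj X :=
      Over.homMk (pullback.lift x (𝟙 _) (by rw [hx, Category.id_comp])) (pullback.lift_snd _ _ _)
  let Z : Over S := Over.mk (pullback.snd G.hom τ ≫ τ)
  let zG : Z ⟶ G := Over.homMk (pullback.fst G.hom τ) pullback.condition
  let zx : Z ⟶ X := Over.homMk (pullback.snd G.hom τ ≫ x) (by
      rw [Category.assoc, hx]; rfl)
  have h1 : (baseAct τ a).orbitMap xK = lift (𝟙 _) (toUnit _ ≫ xK) ≫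
      Functor.LaxMonoidal.μ F G X ≫ F.map a.act := rfl
  have h2 : (F.map a.act).left ≫ pullback.fst X.hom τ = pullback.fst (G ⊗ X).hom τ ≫ a.act.left :=
    (isPullback_map_left τ a.act).w
  have h3 : (lift (𝟙 (F.obj G)) (toUnit _ ≫ xK)).left ≫ (Functor.LaxMonoidal.μ F G X).left ≫
      pullback.fst (G ⊗ X).hom τ = (lift zG zx).left := by
    have h4 : (Functor.LaxMonoidal.μ F G X).left ≫ pullback.fst (G ⊗ X).hom τ ≫ (fst G X).left =
        (fst (F.obj G) (F.obj X)).left ≫ pullback.fst G.hom τ := by
      rw [← (isPullback_map_left τ (fst G X)).w, ← Category.assoc, ← Over.comp_left,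
        Functor.Monoidal.μ_fst]
    have h5 : (Functor.LaxMonoidal.μ F G X).left ≫ pullback.fst (G ⊗ X).hom τ ≫ (snd G X).left =
        (snd (F.obj G) (F.obj X)).left ≫ pullback.fst X.hom τ := by
      rw [← (isPullback_map_left τ (snd G X)).w, ← Category.assoc, ← Over.comp_left,
        Functor.Monoidal.μ_snd]
    have h6 : ∀ {W : Scheme.{u}} (f g : W ⟶ (G ⊗ X).left), f ≫ (fst G X).left = g ≫ (fst G X).left →
        f ≫ (snd G X).left = g ≫ (snd G X).left → f = g := by
      intro W f g hf hg
      exact pullback.hom_ext hf hg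
    apply h6
    · rw [Category.assoc, Category.assoc, h4, ← Category.assoc, ← Over.comp_left, lift_fst,
        ← Over.comp_left, lift_fst]
      simp [zG]
    · rw [Category.assoc, Category.assoc, h5, ← Category.assoc, ← Over.comp_left, lift_snd,
        ← Over.comp_left, lift_snd, Over.comp_left, Category.assoc]
      change (F.obj G).hom ≫ (pullback.lift x (𝟙 _) _ ≫ pullback.fst X.hom τ) =
        pullback.snd G.hom τ ≫ x
      rw [pullback.lift_fst]
      rfl
  change ((baseAct τ a).orbitMap xK).left ≫ pullback.fst X.hom τ = (lift zG zx ≫ a.act).left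
  rw [h1, Over.comp_left, Over.comp_left, Category.assoc, Category.assoc, h2, Over.comp_left, ← h3]
  simp only [Category.assoc]

/-- Key lemma: over a point `t` of `T`, the unit component of the fibre of `T × G` over `t` is an
irreducible set, and acting by it on a `T`-point `x` of `X` reaches all generizations of `x(t)` in
its fibre over `S`. -/
theorem key (hΦ : Surjective (lift a.act (snd G X)).left) (T : Over S) (t : T.left) :
    ∃ C : Set (T ⊗ G).left, IsIrreducible C ∧ (∀ w ∈ C, (fst T G).left w = t) ∧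
      ((lift (𝟙 T) (1 : T ⟶ G)).left t ∈ C) ∧
      (∀ (x : T ⟶ X) (ξ : X.left), X.hom ξ = T.hom t → ξ ⤳ x.left t →
        ∃ w ∈ C, (lift (snd T G) (fst T G ≫ x) ≫ a.act).left w = ξ) := by
  let K := T.left.residueField t
  let i : Spec (CommRingCat.of K) ⟶ T.left := T.left.fromSpecResidueField t
  let τ : Spec (CommRingCat.of K) ⟶ S := i ≫ T.hom
  have hi : ∀ z, i z = t := fun z ↦ Scheme.fromSpecResidueField_apply _ _
  let := Functor.grpObjObj (F := Over.pullback τ) (G := G)
  let F := Over.pullback τ
  let G' := F.obj G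
  let pt : ↥(𝟙_ (Over (Spec (CommRingCat.of K)))).left := IsLocalRing.closedPoint K
  let Z : Over S := Over.mk (pullback.snd G.hom τ ≫ τ)
  let zG : Z ⟶ G := Over.homMk (pullback.fst G.hom τ) pullback.condition
  let zT : Z ⟶ T := Over.homMk (pullback.snd G.hom τ ≫ i) (by
      rw [Category.assoc]; rfl)
  let j : Z ⟶ T ⊗ G := lift zT zG
  have hj1 : j ≫ fst T G = zT := lift_fst _ _
  have hj2 : j ≫ snd T G = zG := lift_snd _ _
  let C0 : Set G'.left := connectedComponent (η[G'].left pt)
  have hC0 : C0 ∈ irreducibleComponents G'.left := connectedComponent_unit_mem G' pt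
  refine ⟨j.left '' C0, hC0.1.image _ j.left.continuous.continuousOn, ?_, ?_, ?_⟩
  · rintro _ ⟨w, -, rfl⟩
    rw [← comp_left_apply, hj1]
    exact hi _
  · refine ⟨η[G'].left pt, mem_connectedComponent, ?_⟩
    have h1 : η[G'].left ≫ j.left = i ≫ (lift (𝟙 T) (1 : T ⟶ G)).left := by
      have h6 : ∀ {W : Scheme.{u}} (f g : W ⟶ (T ⊗ G).left), f ≫ (fst T G).left = g ≫ (fst T G).left →
          f ≫ (snd T G).left = g ≫ (snd T G).left → f = g := by
        intro W f g hf hg
        exact pullback.hom_ext hf hg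
      have hη : η[G'].left ≫ pullback.snd G.hom τ = 𝟙 _ := Over.w η[G']
      apply h6
      · rw [Category.assoc, Category.assoc, ← Over.comp_left, ← Over.comp_left, hj1, lift_fst]
        change η[G'].left ≫ pullback.snd G.hom τ ≫ i = i ≫ 𝟙 _
        rw [← Category.assoc, hη, Category.id_comp, Category.comp_id]
      · rw [Category.assoc, Category.assoc, ← Over.comp_left, ← Over.comp_left, hj2, lift_snd]
        change (Functor.LaxMonoidal.ε F ≫ F.map η[G]).left ≫ pullback.fst G.hom τ = _
        rw [Over.comp_left, Category.assoc, (isPullback_map_left τ η[G]).w]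
        have h2 : pullback.fst (𝟙_ (Over S)).hom τ = pullback.snd (𝟙_ (Over S)).hom τ ≫ τ := by
          rw [← pullback.condition]
          exact (Category.comp_id _).symm
        have h3 : (Functor.LaxMonoidal.ε F).left ≫ pullback.snd (𝟙_ (Over S)).hom τ = 𝟙 _ :=
          Over.w (Functor.LaxMonoidal.ε F)
        rw [h2, Category.assoc, ← Category.assoc, h3]
        change 𝟙 _ ≫ (i ≫ T.hom) ≫ η[G].left = i ≫ T.hom ≫ η[G].left
        rw [Category.id_comp, Category.assoc]
    rw [← Scheme.Hom.comp_apply, h1, Scheme.Hom.comp_apply, hi]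
  · intro x ξ hξ hξx
    have hx : (i ≫ x.left) ≫ X.hom = τ := by
      rw [Category.assoc, Over.w x]
    let xK : 𝟙_ (Over (Spec (CommRingCat.of K))) ⟶ (Over.pullback τ).obj X :=
      Over.homMk (pullback.lift (i ≫ x.left) (𝟙 _) (by rw [hx, Category.id_comp]))
        (pullback.lift_snd _ _ _)
    have hxK : pullback.fst X.hom τ (xK.left pt) = x.left t := by
      have : xK.left ≫ pullback.fst X.hom τ = i ≫ x.left := pullback.lift_fst _ _ _
      rw [← Scheme.Hom.comp_apply, this, Scheme.Hom.comp_apply, hi]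
    obtain ⟨ξ', hξ', hξ''⟩ := exists_generization (X := X) (s := T.hom t)
      (Spec.map (T.hom.residueFieldMap t)) τ (Scheme.Hom.SpecMap_residueFieldMap_fromSpecResidueField _ _)
      (xK.left pt) ξ hξ (by
        have h0 := hξx
        rw [← hxK] at h0
        exact h0)
    have h1 := orbitMap_image_eq (baseAct τ a) (surjective_baseAct τ a hΦ) xK pt hC0
      mem_connectedComponent (irreducibleComponent_mem_irreducibleComponents (xK.left pt))
      mem_irreducibleComponent
    have h2 : ξ' ∈ irreducibleComponent (xK.left pt) := by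
      have h3 : xK.left pt ∈ irreducibleComponent ξ' :=
        hξ'.mem_closed isClosed_irreducibleComponent mem_irreducibleComponent
      rw [(HomogConn.main (baseAct τ a) (surjective_baseAct τ a hΦ)).1 _ _ _
        (irreducibleComponent_mem_irreducibleComponents (xK.left pt))
        (irreducibleComponent_mem_irreducibleComponents ξ') mem_irreducibleComponent h3]
      exact mem_irreducibleComponent
    rw [← h1] at h2
    obtain ⟨g, hg, hg'⟩ := h2
    refine ⟨j.left g, ⟨g, hg, rfl⟩, ?_⟩
    have h3 : j ≫ lift (snd T G) (fst T G ≫ x) ≫ a.act = lift zG (zT ≫ x) ≫ a.act := by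
      rw [comp_lift_act, hj2, ← Category.assoc, hj1]
    have h4 := orbitMap_fst a τ (i ≫ x.left) hx
    have h5 : (lift zG (zT ≫ x) ≫ a.act).left g =
        (pullback.fst X.hom τ) (((baseAct τ a).orbitMap xK).left g) := congr($(h4.symm) g)
    rw [← comp_left_apply, h3, h5]
    exact (congrArg (pullback.fst X.hom τ) hg').trans hξ''

end K208.HomogKey
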